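import Mathlib
import Cfsg.Agent.Lib.OddCond.Basic

/-!
A group of automorphisms preserving an anisotropic quadratic map between elementary abelian
2-groups has a normal 2-complement, so it is solvable by the odd order theorem.
-/

set_option autoImplicit false

namespace Cfsg.Agent.Lib.OutSylow96

open Subgroup

universe u v

variable {V : Type u} [CommGroup V] {W : Type v} [CommGroup W]

/-- The polar form of a map between groups of exponent two. -/
def polar (q : V → W) (x y : V) : W := q (x * y) * q x * q y

/-- An anisotropic quadratic map. -/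
structure Aniso (q : V → W) : Prop where
  sqV : ∀ x : V, x * x = 1
  sqW : ∀ x : W, x * x = 1
  bilin : ∀ x y z : V, polar q (x * y) z = polar q x z * polar q y z
  eq_one : ∀ x, q x = 1 → x = 1

namespace Aniso

variable {q : V → W}

omit [CommGroup V] [CommGroup W] in
theorem aux_sq {M : Type*} [CommGroup M] (h : ∀ x : M, x * x = 1) (a b : M) : a * (a * b) = b := by
  rw [← mul_assoc, h, one_mul]

theorem polar_symm (x y : V) : polar q x y = polar q y x := by
  unfold polar; rw [mul_comm x y, mul_assoc, mul_assoc, mul_comm (q x)]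

theorem q_one (A : Aniso q) : q 1 = 1 := by
  have h := A.bilin 1 1 1
  rw [mul_one, A.sqW] at h
  unfold polar at h
  rwa [mul_one, mul_assoc, A.sqW, mul_one] at h

theorem polar_one (A : Aniso q) (x : V) : polar q x 1 = 1 := by
  unfold polar; rw [mul_one, A.q_one, mul_one, A.sqW]

theorem polar_mul (A : Aniso q) (x y z : V) : polar q x (y * z) = polar q x y * polar q x z := by
  rw [polar_symm, A.bilin, polar_symm y, polar_symm z]

variable (h : MulAut V)

theorem polar_map (hh : ∀ x, q (h x) = q x) (x y : V) : polar q (h x) (h y) = polar q x y := by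
  unfold polar; rw [← map_mul, hh, hh, hh]

theorem polar_moved (A : Aniso q) (hh : ∀ x, q (h x) = q x) (w : V) :
    polar q w (w * h w) = q (w * h w) := by
  unfold polar
  rw [aux_sq A.sqV, hh, A.sqW, one_mul]

theorem polar_fixed (A : Aniso q) (hh : ∀ x, q (h x) = q x) {f : V} (hf : h f = f) (v : V) :
    polar q f (v * h v) = 1 := by
  have h1 := A.polar_moved h hh (f * v)
  rw [map_mul, hf, show f * v * (f * h v) = v * h v by
    rw [mul_mul_mul_comm, A.sqV, one_mul], A.bilin, A.polar_moved h hh v] at h1
  exact mul_eq_right.1 h1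

end Aniso

theorem app_mul {V : Type u} [Mul V] (a b : MulAut V) (x : V) : (a * b) x = a (b x) := rfl

variable [Finite V] {q : V → W} {H : Subgroup (MulAut V)}

/-- A group preserving an anisotropic quadratic map is solvable. -/
theorem isSolvable_of_aniso (hFT : OddCond.OddSolvable.{u}) (A : Aniso q)
    (hH : ∀ h ∈ H, ∀ x, q (h x) = q x) : Group.IsSolvable H := by
  classical
  haveI : Fact (Nat.Prime 2) := ⟨Nat.prime_two⟩
  haveI : Finite (MulAut V) :=
    Finite.of_injective (fun α : MulAut V => (α : V → V)) DFunLike.coe_injective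
  have q1 := A.q_one
  -- commuting elements fix the image of an involution
  have hc : ∀ s ∈ H, ∀ t ∈ H, t * t = 1 → s * t = t * s → ∀ v, s (v * t v) = v * t v := by
    intro s hs t ht ht2 hst v
    have htt : ∀ x, t (t x) = x := fun x => by rw [← app_mul, ht2, MulAut.one_apply]
    have h1 : t (v * t v) = v * t v := by rw [map_mul, htt, mul_comm]
    have h2 : s (v * t v) = s v * t (s v) := by
      rw [map_mul, ← app_mul s t, hst, app_mul]
    have h3 := A.polar_fixed t (hH t ht) h1 (s v)
    rw [← h2] at h3
    unfold polar at h3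
    rw [hH s hs, mul_assoc, A.sqW, mul_one] at h3
    have h4 := A.eq_one _ h3
    calc s (v * t v) = (v * t v) * ((v * t v) * s (v * t v)) := (Aniso.aux_sq A.sqV _ _).symm
      _ = v * t v := by rw [h4, mul_one]
  have h4 : ∀ t ∈ H, t * t * (t * t) = 1 → t * t = 1 := by
    intro t ht ht4
    refine MulEquiv.ext fun v => ?_
    rw [MulAut.one_apply]
    set τ := t * t with hτ
    have hτH : τ ∈ H := mul_mem ht ht
    set u := v * τ v with hu
    have htu : t u = u := hc t ht τ hτH ht4 (by rw [hτ, mul_assoc]) v
    set w := v * t v with hw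
    have huw : w * t w = u := by
      rw [hw, hu, map_mul, ← app_mul t t, ← hτ, mul_assoc, Aniso.aux_sq A.sqV]
    have hτv : τ v = v * u := by rw [hu, Aniso.aux_sq A.sqV]
    have hτw : τ w = w := by
      rw [hw, map_mul]
      have : τ (t v) = t (τ v) := by
        rw [← app_mul, ← app_mul, hτ, mul_assoc]
      rw [this, hτv, map_mul, htu, mul_mul_mul_comm, A.sqV, mul_one]
    have e1 := A.polar_fixed τ (hH τ hτH) hτw v
    have e2 := A.polar_moved t (hH t ht) w
    rw [huw] at e2
    rw [← hu] at e1
    rw [e1] at e2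
    have hu1 := A.eq_one _ e2.symm
    rw [hτv, hu1, mul_one]
  obtain ⟨T⟩ : Nonempty (Sylow 2 H) := inferInstance
  have hT2 : ∀ t : H, t ∈ (T : Subgroup H) → t * t = 1 := by
    intro t ht
    obtain ⟨k, hk⟩ := T.2 ⟨t, ht⟩
    have hk' : t ^ 2 ^ k = 1 := congrArg Subtype.val hk
    clear hk ht
    induction k generalizing t with
    | zero => rw [pow_zero, pow_one] at hk'; rw [hk', one_mul]
    | succ k ih =>
      have h2 : t * t * (t * t) = 1 := ih (t * t) (by rw [← hk', pow_succ', pow_mul, sq])
      exact Subtype.ext (h4 t t.2 (congrArg Subtype.val h2))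
  have hTc : ∀ s : H, s ∈ (T : Subgroup H) → ∀ t : H, t ∈ (T : Subgroup H) → s * t = t * s := by
    intro s hs t ht
    calc s * t = (s * t)⁻¹ := (inv_eq_of_mul_eq_one_right (hT2 _ (mul_mem hs ht))).symm
      _ = t⁻¹ * s⁻¹ := mul_inv_rev s t
      _ = t * s := by
        rw [inv_eq_of_mul_eq_one_right (hT2 s hs), inv_eq_of_mul_eq_one_right (hT2 t ht)]
  have hodd : ∀ n : H, n ∈ normalizer ((T : Subgroup H) : Set H) → Odd (orderOf n) →
      n ∈ centralizer ((T : Subgroup H) : Set H) := by
    intro n hn hno
    rw [mem_centralizer_iff]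
    intro t ht
    have ht' : n * t * n⁻¹ ∈ (T : Subgroup H) := (mem_normalizer_iff.1 hn t).1 ht
    set t' := n * t * n⁻¹ with ht'def
    have hnu : ∀ v, (n : MulAut V) (v * (t : MulAut V) v) = v * (t : MulAut V) v := by
      intro v
      have h2 : (t : MulAut V) * t = 1 := congrArg Subtype.val (hT2 t ht)
      have h1 : (t' : MulAut V) (v * (t : MulAut V) v) = v * (t : MulAut V) v :=
        hc t' t'.2 t t.2 h2 (congrArg Subtype.val (hTc t' ht' t ht)) v
      have h3 : (n : MulAut V) (v * (t : MulAut V) v) =
          (n : MulAut V) v * (t' : MulAut V) ((n : MulAut V) v) := by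
        rw [map_mul, ht'def]
        simp
      have h5 := A.polar_fixed (t' : MulAut V) (hH _ t'.2) h1 ((n : MulAut V) v)
      rw [← h3] at h5
      unfold polar at h5
      rw [hH _ n.2, mul_assoc, A.sqW, mul_one] at h5
      have h6 := A.eq_one _ h5
      calc (n : MulAut V) (v * (t : MulAut V) v)
          = (v * (t : MulAut V) v) * ((v * (t : MulAut V) v) * (n : MulAut V) (v * (t : MulAut V) v)) :=
            (Aniso.aux_sq A.sqV _ _).symm
        _ = _ := by rw [h6, mul_one]
    have key : ∀ v, (n : MulAut V) v * (t : MulAut V) ((n : MulAut V) v) = v * (t : MulAut V) v := by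
      intro v
      set a := v * (n : MulAut V) v with ha
      set u := a * (t : MulAut V) a with hu
      have hsum : ∀ k : ℕ, polar q u (v * ((n : MulAut V) ^ k) v) = q u ^ k := by
        intro k
        induction k with
        | zero => rw [pow_zero, pow_zero, MulAut.one_apply, A.sqV, A.polar_one]
        | succ k ih =>
          have hsplit : v * ((n : MulAut V) ^ (k + 1)) v =
              a * (n : MulAut V) (v * ((n : MulAut V) ^ k) v) := by
            rw [ha, map_mul, pow_succ', app_mul, mul_assoc, Aniso.aux_sq A.sqV]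
          have hinv : polar q u ((n : MulAut V) (v * ((n : MulAut V) ^ k) v)) =
              polar q u (v * ((n : MulAut V) ^ k) v) := by
            conv_lhs => rw [hu, ← hnu a, ← hu]
            exact Aniso.polar_map _ (hH _ n.2) _ _
          have hua : polar q u a = q u := by
            rw [Aniso.polar_symm]
            exact A.polar_moved _ (hH _ t.2) a
          rw [hsplit, A.polar_mul, hinv, ih, hua, pow_succ']
      have h0 := hsum (orderOf n)
      have hn1 : (n : MulAut V) ^ orderOf n = 1 := congrArg Subtype.val (pow_orderOf_eq_one n)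
      rw [hn1, MulAut.one_apply, A.sqV, A.polar_one] at h0
      obtain ⟨m, hm⟩ := hno
      rw [hm, pow_succ, pow_mul, sq, A.sqW, one_pow, one_mul] at h0
      have hu1 := A.eq_one _ h0.symm
      rw [hu, ha, map_mul, mul_mul_mul_comm] at hu1
      calc (n : MulAut V) v * (t : MulAut V) ((n : MulAut V) v)
          = v * (t : MulAut V) v *
              (v * (t : MulAut V) v * ((n : MulAut V) v * (t : MulAut V) ((n : MulAut V) v))) :=
            (Aniso.aux_sq A.sqV _ _).symm
        _ = _ := by rw [hu1, mul_one]
    refine Subtype.ext (MulEquiv.ext fun v => ?_)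
    show (t : MulAut V) ((n : MulAut V) v) = (n : MulAut V) ((t : MulAut V) v)
    have e := (key v).trans (hnu v).symm
    rw [map_mul] at e
    exact mul_left_cancel e
  have hNC : normalizer ((T : Subgroup H) : Set H) ≤ centralizer ((T : Subgroup H) : Set H) := by
    intro n hn
    obtain ⟨k, m, hm, hnm⟩ := Nat.exists_eq_two_pow_mul_odd (orderOf_pos n).ne'
    have h1 : n ^ 2 ^ k ∈ centralizer ((T : Subgroup H) : Set H) := by
      refine hodd _ (pow_mem hn _) ?_
      rw [orderOf_pow, hnm, Nat.gcd_mul_right_left, Nat.mul_div_cancel_left _ (pow_pos two_pos _)]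
      exact hm
    have h2 : n ^ m ∈ (T : Subgroup H) := by
      have hp : IsPGroup 2 (zpowers (n ^ m)) := by
        refine IsPGroup.of_card (n := k) ?_
        rw [Nat.card_zpowers, orderOf_pow, hnm, Nat.gcd_mul_left_left,
          Nat.mul_div_cancel _ hm.pos]
      have h3 := hp.to_sup_of_normal_right' T.2
        (zpowers_le.2 (pow_mem hn m))
      exact (T.3 h3 le_sup_right) ▸ mem_sup_left (mem_zpowers _)
    have h2' : n ^ m ∈ centralizer ((T : Subgroup H) : Set H) :=
      mem_centralizer_iff.2 fun t ht => hTc t ht _ h2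
    have hcop : IsCoprime ((2 ^ k : ℕ) : ℤ) (m : ℤ) := by
      rw [Int.isCoprime_iff_nat_coprime]
      exact Nat.Coprime.pow_left k (Nat.coprime_two_left.2 hm)
    obtain ⟨a, b, hab⟩ := hcop
    have : n = (n ^ 2 ^ k) ^ a * (n ^ m) ^ b := by
      rw [← zpow_natCast n (2 ^ k), ← zpow_natCast n m, ← zpow_mul, ← zpow_mul, ← zpow_add,
        mul_comm _ a, mul_comm _ b, hab, zpow_one]
    rw [this]
    exact mul_mem (zpow_mem h1 a) (zpow_mem h2' b)
  refine OddCond.isSolvable_of_hasNormalPComplement_two hFT
    ⟨T, (MonoidHom.transferSylow T hNC).ker, inferInstance, ?_⟩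
  exact MonoidHom.ker_transferSylow_isComplement' T hNC

end Cfsg.Agent.Lib.OutSylow96
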