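import Cfsg.Agent.Lib.OutSylow96.Aniso
import Cfsg.Agent.Lib.OddCond.OutSolvable
import Cfsg.Agent.Lib.PGroup.Critical
import Cfsg.Agent.S0121

/-!
Automorphisms of a 2-group with commuting involutions which fix all the involutions form a
solvable group (odd order theorem).
-/

set_option autoImplicit false

namespace Cfsg.Agent.Lib.OutSylow96

open Subgroup
open scoped commutatorElement

universe u

variable {S : Type u} [Group S]

/-- Restriction of a group of automorphisms to an invariant subgroup. -/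
def restrictAut (H : Subgroup (MulAut S)) (C : Subgroup S) (hC : ∀ h ∈ H, ∀ x ∈ C, h x ∈ C) :
    H →* MulAut C where
  toFun a :=
    { toFun := fun x => ⟨(a : MulAut S) x, hC _ a.2 _ x.2⟩
      invFun := fun x => ⟨((a⁻¹ : H) : MulAut S) x, hC _ (a⁻¹).2 _ x.2⟩
      left_inv := fun x => Subtype.ext ((a : MulAut S).symm_apply_apply x)
      right_inv := fun x => Subtype.ext ((a : MulAut S).apply_symm_apply x)
      map_mul' := fun x y => Subtype.ext (map_mul (a : MulAut S) (x : S) y) }
  map_one' := rfl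
  map_mul' _ _ := rfl

theorem restrictAut_apply (H : Subgroup (MulAut S)) (C : Subgroup S)
    (hC : ∀ h ∈ H, ∀ x ∈ C, h x ∈ C) (a : H) (x : C) :
    ((restrictAut H C hC a x : C) : S) = (a : MulAut S) x := rfl

theorem eq_of_restrictAut {H : Subgroup (MulAut S)} {C : Subgroup S}
    {hC : ∀ h ∈ H, ∀ x ∈ C, h x ∈ C} {a : H} (ha : a ∈ (restrictAut H C hC).ker) {x : S}
    (hx : x ∈ C) : (a : MulAut S) x = x :=
  congrArg (fun e : MulAut C => ((e ⟨x, hx⟩ : C) : S)) (MonoidHom.mem_ker.1 ha)

theorem char_apply_mem {C : Subgroup S} (hC : C.Characteristic) (h : MulAut S) {x : S} (hx : x ∈ C) :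
    h x ∈ C := by
  rw [← Subgroup.characteristic_iff_map_eq.1 hC h]
  exact mem_map_of_mem _ hx

/-- A solvable image and a 2-group kernel give a solvable group. -/
theorem isSolvable_of_two_kernel {H K : Type u} [Group H] [Finite H] [Group K] (f : H →* K)
    (hk : IsPGroup 2 f.ker) (hr : Group.IsSolvable f.range) : Group.IsSolvable H :=
  OddCond.OutSolvable.isSolvable_of_ker_range f (OddCond.OutSolvable.isSolvable_of_two_group hk) hr

/-- If all elements of odd order are trivial, the group is a 2-group. -/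
theorem isPGroup_of_odd_trivial {M : Type*} [Group M] [Finite M]
    (h : ∀ a : M, Odd (orderOf a) → a = 1) : IsPGroup 2 M := by
  intro a
  obtain ⟨k, m, hm, hkm⟩ := Nat.exists_eq_two_pow_mul_odd (orderOf_pos a).ne'
  refine ⟨k, h _ ?_⟩
  rw [orderOf_pow, hkm, Nat.gcd_mul_right_left, Nat.mul_div_cancel_left _ (pow_pos two_pos _)]
  exact hm

section ClassTwo

variable [Finite S] (hsq : ∀ x y : S, x * x * y = y * (x * x))
  (hcm : ∀ x y z : S, ⁅x, y⁆ * z = z * ⁅x, y⁆)

include hsq hcm

theorem comm_sq_one (x y : S) : ⁅x, y⁆ * ⁅x, y⁆ = 1 := by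
  set z := ⁅x, y⁆ with hz
  have h1 : x * y = z * (y * x) := by rw [hz, commutatorElement_def]; group
  have h2 : x * x * y = z * z * (y * (x * x)) := by
    calc x * x * y = x * (x * y) := mul_assoc _ _ _
      _ = x * z * (y * x) := by rw [h1]; group
      _ = z * x * (y * x) := by rw [← hcm x y x]
      _ = z * (x * y) * x := by group
      _ = z * (z * (y * x)) * x := by rw [h1]
      _ = z * z * (y * (x * x)) := by group
  rw [hsq] at h2
  exact mul_eq_right.1 h2.symm

theorem sq_mul (x y : S) : x * y * (x * y) = ⁅y, x⁆ * (x * x * (y * y)) := by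
  calc x * y * (x * y) = x * (y * x) * y := by group
    _ = x * (⁅y, x⁆ * (x * y)) * y := by rw [commutatorElement_def]; group
    _ = x * ⁅y, x⁆ * (x * y * y) := by group
    _ = ⁅y, x⁆ * x * (x * y * y) := by rw [← hcm y x x]
    _ = _ := by group

/-- The elements of order at most four. -/
def fourSubgroup : Subgroup S where
  carrier := {x | x * x * (x * x) = 1}
  one_mem' := by simp
  mul_mem' {x y} hx hy := by
    show x * y * (x * y) * (x * y * (x * y)) = 1
    have hx' : x * x * (x * x) = 1 := hx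
    have hy' : y * y * (y * y) = 1 := hy
    rw [sq_mul hsq hcm x y]
    have c1 : ⁅y, x⁆ * (x * x * (y * y)) * (⁅y, x⁆ * (x * x * (y * y))) =
        ⁅y, x⁆ * ⁅y, x⁆ * (x * x * (y * y) * (x * x * (y * y))) := by
      generalize hw : x * x * (y * y) = w
      calc ⁅y, x⁆ * w * (⁅y, x⁆ * w) = ⁅y, x⁆ * (w * ⁅y, x⁆) * w := by simp only [mul_assoc]
        _ = ⁅y, x⁆ * (⁅y, x⁆ * w) * w := by rw [hcm y x w]
        _ = _ := by simp only [mul_assoc]
    rw [c1, comm_sq_one hsq hcm, one_mul]
    calc x * x * (y * y) * (x * x * (y * y)) = x * x * ((y * y) * (x * x)) * (y * y) := by group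
      _ = x * x * ((x * x) * (y * y)) * (y * y) := by rw [hsq y (x * x)]
      _ = (x * x * (x * x)) * (y * y * (y * y)) := by group
      _ = 1 := by rw [hx', hy', one_mul]
  inv_mem' {x} hx := by
    show x⁻¹ * x⁻¹ * (x⁻¹ * x⁻¹) = 1
    have hx' : x * x * (x * x) = 1 := hx
    calc x⁻¹ * x⁻¹ * (x⁻¹ * x⁻¹) = (x * x * (x * x))⁻¹ := by simp only [mul_inv_rev]
      _ = 1 := by rw [hx', inv_one]

theorem mem_fourSubgroup {x : S} : x ∈ fourSubgroup hsq hcm ↔ x * x * (x * x) = 1 := Iff.rfl

/-- An automorphism of odd order fixing the elements of order at most four is trivial. -/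
theorem eq_one_of_fix_four (h2 : IsPGroup 2 S) (a : MulAut S) (ha : Odd (orderOf a))
    (hfix : ∀ x, x * x * (x * x) = 1 → a x = x) : a = 1 := by
  have key : ∀ (k : ℕ) (x : S), x ^ 2 ^ k = 1 → a x = x := by
    intro k
    induction k with
    | zero => intro x hx; rw [pow_zero, pow_one] at hx; rw [hx, map_one]
    | succ k ih =>
      intro x hx
      have hx2 : a (x * x) = x * x := ih _ (by rw [← hx, pow_succ', pow_mul, sq])
      set y := a x with hy
      rw [map_mul, ← hy] at hx2
      set u := x⁻¹ * y with hu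
      have hu2 : u * u = ⁅y, x⁻¹⁆ := by
        rw [hu, sq_mul hsq hcm, hx2]
        group
      have hfu : a u = u := hfix u (by rw [hu2]; exact comm_sq_one hsq hcm _ _)
      have hpow : ∀ j : ℕ, (a ^ j) x = x * u ^ j := by
        intro j
        induction j with
        | zero => simp
        | succ j ihj =>
          rw [pow_succ' a, app_mul, ihj, map_mul, map_pow, hfu, pow_succ' u, ← mul_assoc,
            show x * u = y by rw [hu]; group]
      have h1 := hpow (orderOf a)
      rw [pow_orderOf_eq_one, MulAut.one_apply] at h1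
      have hum : u ^ orderOf a = 1 := left_eq_mul.1 h1
      obtain ⟨j, hj⟩ := h2 u
      have hu1 : u = 1 := by
        rw [← orderOf_eq_one_iff]
        exact Nat.eq_one_of_dvd_coprimes ((Nat.coprime_two_right.2 ha).pow_right j)
          (orderOf_dvd_of_pow_eq_one hum) (orderOf_dvd_of_pow_eq_one hj)
      exact (inv_mul_eq_one.1 (hu ▸ hu1)).symm
  refine MulEquiv.ext fun x => ?_
  obtain ⟨k, hk⟩ := h2 x
  rw [MulAut.one_apply]
  exact key k x hk

/-- The case of class two with central squares. -/
theorem isSolvable_classTwo (hFT : OddCond.OddSolvable.{u}) (h2 : IsPGroup 2 S)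
    (hcen : ∀ x y : S, x * x = 1 → x * y = y * x) (H : Subgroup (MulAut S))
    (hfix : ∀ h ∈ H, ∀ x, x * x = 1 → h x = x) : Group.IsSolvable H := by
  haveI := OddCond.OutSolvable.finite_mulAut S
  set M := fourSubgroup hsq hcm with hM
  have hinv : ∀ h ∈ H, ∀ x ∈ M, h x ∈ M := by
    intro h _ x hx
    rw [hM, mem_fourSubgroup] at hx ⊢
    rw [← map_mul, ← map_mul, hx, map_one]
  haveI := OddCond.OutSolvable.finite_mulAut M
  refine isSolvable_of_two_kernel (restrictAut H M hinv) ?_ ?_
  · refine isPGroup_of_odd_trivial fun a ha => Subtype.ext (Subtype.ext ?_)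
    refine eq_one_of_fix_four hsq hcm h2 _ ?_ fun x hx => eq_of_restrictAut a.2 hx
    rwa [Subgroup.orderOf_coe, Subgroup.orderOf_coe]
  set H' := (restrictAut H M hinv).range with hH'
  have hfix' : ∀ h ∈ H', ∀ x : M, x * x = 1 → h x = x := by
    rintro _ ⟨a, rfl⟩ x hx
    exact Subtype.ext (hfix _ a.2 x (congrArg Subtype.val hx))
  let E : Subgroup M :=
    { carrier := {x | x * x = 1}
      one_mem' := mul_one 1
      mul_mem' := fun {x y} hx hy => by
        have h : y * x = x * y := Subtype.ext (hcen x y (congrArg Subtype.val hx)).symm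
        show x * y * (x * y) = 1
        rw [mul_assoc, ← mul_assoc y, h, mul_assoc x y y, show y * y = 1 from hy, mul_one]
        exact hx
      inv_mem' := fun {x} hx => by
        show x⁻¹ * x⁻¹ = 1
        rw [← mul_inv_rev, show x * x = 1 from hx, inv_one] }
  have hEc : ∀ x ∈ E, ∀ y : M, x * y = y * x := fun x hx y =>
    Subtype.ext (hcen x y (congrArg Subtype.val hx))
  have hM4 : ∀ x : M, x * x ∈ E := fun x => Subtype.ext x.2
  haveI : E.Normal := ⟨fun x hx g => by rw [← hEc x hx g, mul_inv_cancel_right]; exact hx⟩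
  letI : CommGroup E :=
    { (inferInstance : Group E) with mul_comm := fun x y => Subtype.ext (hEc x x.2 y) }
  have hVsq : ∀ v : M ⧸ E, v * v = 1 := by
    intro v
    obtain ⟨x, rfl⟩ := QuotientGroup.mk_surjective v
    rw [← QuotientGroup.mk_mul, QuotientGroup.eq_one_iff]
    exact hM4 x
  letI : CommGroup (M ⧸ E) :=
    { (inferInstance : Group (M ⧸ E)) with
      mul_comm := fun x y =>
        calc x * y = (x * y)⁻¹ := (inv_eq_of_mul_eq_one_right (hVsq _)).symm
          _ = y⁻¹ * x⁻¹ := mul_inv_rev x y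
          _ = y * x := by
            rw [inv_eq_of_mul_eq_one_right (hVsq x), inv_eq_of_mul_eq_one_right (hVsq y)] }
  let q : M ⧸ E → E := Quotient.lift (fun x : M => (⟨x * x, hM4 x⟩ : E)) fun x y hxy => by
    obtain ⟨e, he, rfl⟩ : ∃ e ∈ E, y = x * e :=
      ⟨x⁻¹ * y, QuotientGroup.leftRel_apply.1 hxy, by group⟩
    refine Subtype.ext ?_
    show x * x = x * e * (x * e)
    rw [mul_assoc x e, ← mul_assoc e, hEc e he x, mul_assoc x e e, show e * e = 1 from he, mul_one]
  have hq : ∀ x : M, q (x : M ⧸ E) = ⟨x * x, hM4 x⟩ := fun _ => rfl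
  have hA : Aniso q := by
    have hp : ∀ a b : M, ((polar q (a : M ⧸ E) (b : M ⧸ E) : E) : S) = ⁅(b : S), (a : S)⁆ := by
      intro a b
      show ((q (((a : M) : M ⧸ E) * b) * q a * q b : E) : S) = _
      rw [← QuotientGroup.mk_mul, hq, hq, hq]
      show (a : S) * b * (a * b) * (a * a) * (b * b) = _
      rw [sq_mul hsq hcm]
      have ha4 : (a : S) * a * ((a : S) * a) = 1 := a.2
      have hb4 : (b : S) * b * ((b : S) * b) = 1 := b.2
      calc ⁅(b : S), (a : S)⁆ * ((a : S) * a * (b * b)) * (a * a) * (b * b)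
          = ⁅(b : S), (a : S)⁆ * ((a : S) * a) * ((b : S) * b * (a * a)) * (b * b) := by group
        _ = ⁅(b : S), (a : S)⁆ * ((a : S) * a) * ((a : S) * a * (b * b)) * (b * b) := by
            rw [hsq b ((a : S) * a)]
        _ = ⁅(b : S), (a : S)⁆ * ((a : S) * a * (a * a)) * ((b : S) * b * (b * b)) := by group
        _ = _ := by rw [ha4, hb4, mul_one, mul_one]
    refine ⟨hVsq, fun e => Subtype.ext e.2, fun x y z => ?_, fun x hx => ?_⟩
    · obtain ⟨a, rfl⟩ := QuotientGroup.mk_surjective x
      obtain ⟨b, rfl⟩ := QuotientGroup.mk_surjective y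
      obtain ⟨c, rfl⟩ := QuotientGroup.mk_surjective z
      refine Subtype.ext (Subtype.ext ?_)
      show ((polar q (((a : M) : M ⧸ E) * b) c : E) : S) = _
      rw [← QuotientGroup.mk_mul, hp]
      show _ = ((polar q (a : M ⧸ E) c : E) : S) * ((polar q (b : M ⧸ E) c : E) : S)
      rw [hp, hp]
      show ⁅(c : S), (a : S) * b⁆ = _
      calc ⁅(c : S), (a : S) * b⁆ = ⁅(c : S), (a : S)⁆ * (a * ⁅(c : S), (b : S)⁆ * (a : S)⁻¹) := by
            simp only [commutatorElement_def]; group
        _ = _ := by rw [← hcm c b (a : S), mul_inv_cancel_right]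
    · obtain ⟨a, rfl⟩ := QuotientGroup.mk_surjective x
      rw [QuotientGroup.eq_one_iff]
      exact congrArg Subtype.val hx
  have hmapE : ∀ h ∈ H', E.map h.toMonoidHom = E := by
    intro h hh
    ext x
    constructor
    · rintro ⟨y, hy, rfl⟩
      show h y ∈ E
      rw [hfix' h hh y hy]
      exact hy
    · intro hx
      exact ⟨x, hx, hfix' h hh x hx⟩
  let toV : H' →* MulAut (M ⧸ E) :=
    { toFun := fun a => QuotientGroup.congr E E (a : MulAut M) (hmapE _ a.2)
      map_one' := MulEquiv.ext fun v => by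
        obtain ⟨x, rfl⟩ := QuotientGroup.mk_surjective v; rfl
      map_mul' := fun a b => MulEquiv.ext fun v => by
        obtain ⟨x, rfl⟩ := QuotientGroup.mk_surjective v; rfl }
  refine isSolvable_of_two_kernel toV ?_ ?_
  · intro a
    refine ⟨1, Subtype.ext (Subtype.ext (MulEquiv.ext fun x => ?_))⟩
    have h1 : (((a : H') : MulAut M) x : M ⧸ E) = (x : M ⧸ E) :=
      congrArg (fun e : MulAut (M ⧸ E) => e (x : M ⧸ E)) (MonoidHom.mem_ker.1 a.2)
    have he : x⁻¹ * ((a : H') : MulAut M) x ∈ E := by
      rw [← QuotientGroup.eq]; exact h1.symm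
    set e := x⁻¹ * ((a : H') : MulAut M) x with hedef
    have hax : ((a : H') : MulAut M) x = x * e := by rw [hedef]; group
    show ((((a ^ 2 ^ 1 : toV.ker) : H') : MulAut M)) x = x
    have h3 : ((((a ^ 2 ^ 1 : toV.ker) : H') : MulAut M)) =
        ((a : H') : MulAut M) * ((a : H') : MulAut M) := by simp [sq]
    rw [h3, app_mul, hax, map_mul, hax, hfix' _ (a : H').2 e he, mul_assoc,
      show e * e = 1 from he, mul_one]
  refine isSolvable_of_aniso hFT hA ?_
  rintro _ ⟨a, rfl⟩ v
  obtain ⟨x, rfl⟩ := QuotientGroup.mk_surjective v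
  show q (((a : MulAut M) x : M) : M ⧸ E) = q (x : M ⧸ E)
  rw [hq, hq]
  refine Subtype.ext ?_
  show (a : MulAut M) x * (a : MulAut M) x = x * x
  rw [← map_mul]
  exact hfix' _ a.2 _ (Subtype.ext x.2)

end ClassTwo

/-- Involutions central. -/
theorem isSolvable_of_central [Finite S] (hFT : OddCond.OddSolvable.{u}) (h2 : IsPGroup 2 S)
    (hcen : ∀ x y : S, x * x = 1 → x * y = y * x) (H : Subgroup (MulAut S))
    (hfix : ∀ h ∈ H, ∀ x, x * x = 1 → h x = x) : Group.IsSolvable H := by
  haveI : Fact (Nat.Prime 2) := ⟨Nat.prime_two⟩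
  obtain ⟨D, hD⟩ := Critical.exists_critical h2
  haveI := OddCond.OutSolvable.finite_mulAut S
  haveI := OddCond.OutSolvable.finite_mulAut D
  refine isSolvable_of_two_kernel (restrictAut H D fun h _ x hx => char_apply_mem hD.char h hx) ?_ ?_
  · refine isPGroup_of_odd_trivial fun a ha => Subtype.ext (Subtype.ext ?_)
    refine S0121.result h2 D hD.char ((Critical.IsCriticalSubgroup.frattini_le hD).trans inf_le_right)
      hD.comm_le hD.centralizer_le _ ?_ fun x hx => eq_of_restrictAut a.2 hx
    rw [Subgroup.orderOf_coe, Subgroup.orderOf_coe, Nat.coprime_two_right]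
    exact ha
  refine isSolvable_classTwo (S := D) ?_ ?_ hFT (h2.to_subgroup D)
    (fun x y hx => Subtype.ext (hcen x y (congrArg Subtype.val hx))) _ ?_
  · intro x y
    refine Subtype.ext ?_
    have h : (x : S) * x ∈ D ⊓ centralizer (D : Set S) := by
      have := hD.pow_mem x x.2
      rwa [sq] at this
    exact (mem_centralizer_iff.1 h.2 y y.2).symm
  · intro x y z
    refine Subtype.ext ?_
    have h : ⁅(x : S), (y : S)⁆ ∈ D ⊓ centralizer (D : Set S) :=
      hD.comm_le (commutator_mem_commutator x.2 (mem_top _))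
    exact (mem_centralizer_iff.1 h.2 z z.2).symm
  · rintro _ ⟨a, rfl⟩ x hx
    exact Subtype.ext (hfix _ a.2 x (congrArg Subtype.val hx))

/-- Automorphisms fixing the pairwise commuting involutions form a solvable group. -/
theorem isSolvable_of_fix_involutions [Finite S] (hFT : OddCond.OddSolvable.{u}) (h2 : IsPGroup 2 S)
    (hcomm : ∀ x y : S, x * x = 1 → y * y = 1 → x * y = y * x) (H : Subgroup (MulAut S))
    (hfix : ∀ h ∈ H, ∀ x, x * x = 1 → h x = x) : Group.IsSolvable H := by
  haveI := OddCond.OutSolvable.finite_mulAut S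
  set C := centralizer {x : S | x * x = 1} with hCdef
  have hC : ∀ h ∈ H, ∀ x ∈ C, h x ∈ C := by
    intro h hh x hx
    rw [hCdef, mem_centralizer_iff] at hx ⊢
    intro e he
    conv_lhs => rw [← hfix h hh e he]
    conv_rhs => rw [← hfix h hh e he]
    rw [← map_mul, ← map_mul, hx e he]
  haveI := OddCond.OutSolvable.finite_mulAut C
  refine isSolvable_of_two_kernel (restrictAut H C hC) ?_ ?_
  · refine isPGroup_of_odd_trivial fun a ha => Subtype.ext (Subtype.ext (MulEquiv.ext fun s => ?_))
    have haS : (((a : H) : MulAut S)) s * s⁻¹ ∈ C := by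
      refine mem_centralizer_iff.2 fun e he => ?_
      set b := ((a : H) : MulAut S) with hb
      have he2 : s⁻¹ * e * s * (s⁻¹ * e * s) = 1 := by
        calc s⁻¹ * e * s * (s⁻¹ * e * s) = s⁻¹ * (e * e) * s := by group
          _ = 1 := by rw [show e * e = 1 from he]; group
      have h1 := hfix b (a : H).2 _ he2
      rw [map_mul, map_mul, map_inv, hfix b (a : H).2 e he] at h1
      have h2' : e * b s = b s * (s⁻¹ * e * s) := by
        rw [← h1]; group
      rw [← mul_assoc, h2']
      group
    set b := ((a : H) : MulAut S) with hb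
    set u := b s * s⁻¹ with hu
    have hfu : b u = u := eq_of_restrictAut a.2 haS
    have hpow : ∀ j : ℕ, (b ^ j) s = u ^ j * s := by
      intro j
      induction j with
      | zero => simp
      | succ j ih =>
        rw [pow_succ' b, app_mul, ih, map_mul, map_pow, hfu, pow_succ u, mul_assoc (u ^ j),
          show u * s = b s by rw [hu]; group]
    have hord : orderOf b = orderOf a := by rw [hb, Subgroup.orderOf_coe, Subgroup.orderOf_coe]
    have h1 := hpow (orderOf b)
    rw [pow_orderOf_eq_one, MulAut.one_apply, hord] at h1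
    have hum : u ^ orderOf a = 1 := right_eq_mul.1 h1
    obtain ⟨j, hj⟩ := h2 u
    have hu1 : u = 1 := by
      rw [← orderOf_eq_one_iff]
      exact Nat.eq_one_of_dvd_coprimes ((Nat.coprime_two_right.2 ha).pow_right j)
        (orderOf_dvd_of_pow_eq_one hum) (orderOf_dvd_of_pow_eq_one hj)
    show b s = s
    exact mul_inv_eq_one.1 (hu ▸ hu1)
  refine isSolvable_of_central hFT (h2.to_subgroup C) ?_ _ ?_
  · intro x y hx
    exact Subtype.ext (mem_centralizer_iff.1 y.2 x (congrArg Subtype.val hx))
  · rintro _ ⟨a, rfl⟩ x hx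
    exact Subtype.ext (hfix _ a.2 x (congrArg Subtype.val hx))

end Cfsg.Agent.Lib.OutSylow96
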