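import Cfsg.Agent.Lib.OddCond.OutSolvable
import Cfsg.Agent.Lib.PPD.Zsigmondy
import Cfsg.Agent.Lib.PGroup.Critical

/-!
A group of automorphisms of an elementary abelian 2-group, modulo a normal subgroup transitive on
the non-identity elements, is solvable: the Frattini argument for an irreducible Sylow subgroup.
-/

set_option autoImplicit false

namespace Cfsg.Agent.Lib.OutSylow96

open Subgroup
open scoped commutatorElement

universe u

variable {E : Type u} [CommGroup E]

/-- Additive form of an automorphism. -/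
def endOf : MulAut E →* AddMonoid.End (Additive E) where
  toFun a := MonoidHom.toAdditive a.toMonoidHom
  map_one' := rfl
  map_mul' _ _ := rfl

theorem endOf_injective : Function.Injective (endOf (E := E)) := fun a b h =>
  MulEquiv.ext fun x =>
    Additive.ofMul.injective (DFunLike.congr_fun h (Additive.ofMul x))

/-- No invariant subgroup except the trivial ones. -/
def Irr (Q : Subgroup (MulAut E)) : Prop :=
  ∀ W : Subgroup E, (∀ a ∈ Q, ∀ w ∈ W, a w ∈ W) → W = ⊥ ∨ W = ⊤

/-- An invariant set without the identity has size divisible by every common divisor of the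
orbit sizes. -/
theorem dvd_ncard [Finite E] {Q : Subgroup (MulAut E)} {m : ℕ}
    (horb : ∀ v : E, v ≠ 1 → m ∣ (MulAction.orbit Q v).ncard) (s : Set E) (h1 : (1 : E) ∉ s)
    (hinv : ∀ a ∈ Q, ∀ w ∈ s, a w ∈ s) : m ∣ s.ncard := by
  generalize hn : s.ncard = n
  induction n using Nat.strong_induction_on generalizing s with
  | h n ih =>
    rcases Set.eq_empty_or_nonempty s with rfl | ⟨v, hv⟩
    · rw [← hn, Set.ncard_empty]; exact dvd_zero m
    set O := MulAction.orbit Q v with hO
    have hsub : O ⊆ s := by
      rintro _ ⟨⟨a, ha⟩, rfl⟩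
      exact hinv a ha v hv
    have hc := Set.ncard_sdiff_add_ncard_of_subset hsub (Set.toFinite s)
    have hpos : 0 < O.ncard := (Set.ncard_pos (Set.toFinite _)).2 ⟨v, MulAction.mem_orbit_self v⟩
    have hd : m ∣ (s \ O).ncard := by
      refine ih (s \ O).ncard (by omega) (s \ O) (fun h => h1 h.1) ?_ rfl
      rintro a ha w ⟨hw, hwO⟩
      refine ⟨hinv a ha w hw, fun h => hwO ?_⟩
      have h2 : (⟨a, ha⟩ : Q) • w ∈ O := h
      rw [hO, ← MulAction.orbit_eq_iff, MulAction.orbit_smul, MulAction.orbit_eq_iff] at h2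
      exact h2
    rw [← hn, ← hc]
    exact dvd_add hd (horb v fun h => h1 (h ▸ hv))

variable [Finite E] {n M : ℕ}

theorem irr_of_orbit (hE : Nat.card E = 2 ^ n) (hM : ∀ d, 0 < d → d < n → ¬ M ∣ 2 ^ d - 1)
    {Q : Subgroup (MulAut E)} (horb : ∀ v : E, v ≠ 1 → M ∣ (MulAction.orbit Q v).ncard) :
    Irr Q := by
  intro W hW
  obtain ⟨d, hd, hWd⟩ := (Nat.dvd_prime_pow Nat.prime_two).1 (hE ▸ card_subgroup_dvd_card W)
  have h1 : M ∣ 2 ^ d - 1 := by
    have h := dvd_ncard horb ((W : Set E) \ {1}) (fun h => h.2 rfl) (by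
      rintro a ha w ⟨hw, hw1⟩
      exact ⟨hW a ha w hw, fun h => hw1 ((EmbeddingLike.map_eq_one_iff (f := a)).1 h)⟩)
    rwa [Set.ncard_sdiff (Set.singleton_subset_iff.2 W.one_mem), Set.ncard_singleton,
      show (W : Set E).ncard = Nat.card W from rfl, hWd] at h
  rcases Nat.eq_zero_or_pos d with rfl | hd0
  · exact Or.inl (Subgroup.card_eq_one.1 hWd)
  rcases lt_or_eq_of_le hd with hdn | rfl
  · exact absurd h1 (hM d hd0 hdn)
  · exact Or.inr (eq_top_of_card_eq W (hWd.trans hE.symm))

/-- Schur and Wedderburn. -/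
theorem centralizer_facts [Nontrivial E] {Q : Subgroup (MulAut E)} (hI : Irr Q) :
    (∀ a ∈ centralizer (Q : Set (MulAut E)), ∀ b ∈ centralizer (Q : Set (MulAut E)), a * b = b * a) ∧
      ∀ P ≤ centralizer (Q : Set (MulAut E)), IsCyclic P := by
  let A := Subring.centralizer ((endOf '' (Q : Set (MulAut E))) : Set (AddMonoid.End (Additive E)))
  haveI : Finite (AddMonoid.End (Additive E)) :=
    Finite.of_injective (fun f : AddMonoid.End (Additive E) => (f : Additive E → Additive E))
      DFunLike.coe_injective
  have hinj : ∀ f : A, f ≠ 0 → ∀ x : E, (f : AddMonoid.End (Additive E)) (Additive.ofMul x) = 0 →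
      x = 1 := by
    intro f hf
    let W : Subgroup E :=
      { carrier := {x | (f : AddMonoid.End (Additive E)) (Additive.ofMul x) = 0}
        one_mem' := map_zero _
        mul_mem' := fun {x y} hx hy => by
          show (f : AddMonoid.End (Additive E)) (Additive.ofMul x + Additive.ofMul y) = 0
          rw [map_add, show _ = (0 : Additive E) from hx, show _ = (0 : Additive E) from hy, add_zero]
        inv_mem' := fun {x} hx => by
          show (f : AddMonoid.End (Additive E)) (-Additive.ofMul x) = 0
          rw [map_neg, show _ = (0 : Additive E) from hx, neg_zero] }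
    have hW : ∀ a ∈ Q, ∀ w ∈ W, a w ∈ W := by
      intro a ha w hw
      have h := DFunLike.congr_fun (Subring.mem_centralizer_iff.1 f.2 (endOf a) ⟨a, ha, rfl⟩)
        (Additive.ofMul w)
      change endOf a ((f : AddMonoid.End (Additive E)) (Additive.ofMul w)) =
        (f : AddMonoid.End (Additive E)) (endOf a (Additive.ofMul w)) at h
      rw [show _ = (0 : Additive E) from hw, map_zero] at h
      exact h.symm
    rcases hI W hW with h | h
    · intro x hx
      have : x ∈ W := hx
      rwa [h, mem_bot] at this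
    · refine absurd (Subtype.ext (DFunLike.ext _ _ fun x => ?_)) hf
      exact (show Additive.toMul x ∈ W from h ▸ mem_top _)
  haveI : NoZeroDivisors A := ⟨fun {f g} hfg => by
    rcases eq_or_ne f 0 with hf | hf
    · exact Or.inl hf
    refine Or.inr (Subtype.ext (DFunLike.ext _ _ fun x => ?_))
    have h : (f : AddMonoid.End (Additive E)) ((g : AddMonoid.End (Additive E)) x) = 0 :=
      DFunLike.congr_fun (congrArg Subtype.val hfg) x
    exact hinj f hf (Additive.toMul ((g : AddMonoid.End (Additive E)) x)) h⟩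
  haveI : Nontrivial A := ⟨0, 1, fun h => by
    obtain ⟨x, hx⟩ := exists_ne (1 : E)
    exact hx ((DFunLike.congr_fun (congrArg Subtype.val h) (Additive.ofMul x)).symm)⟩
  haveI : IsDomain A := NoZeroDivisors.to_isDomain A
  have hcomm := (Finite.isDomain_to_isField A).mul_comm
  have hmem : ∀ c ∈ centralizer (Q : Set (MulAut E)), endOf c ∈ A := by
    intro c hc
    refine Subring.mem_centralizer_iff.2 ?_
    rintro _ ⟨q, hq, rfl⟩
    rw [← map_mul, ← map_mul, mem_centralizer_iff.1 hc q hq]
  refine ⟨fun a ha b hb => endOf_injective ?_, fun P hP => ?_⟩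
  · rw [map_mul, map_mul]
    exact congrArg Subtype.val (hcomm ⟨_, hmem a ha⟩ ⟨_, hmem b hb⟩)
  · letI : CommRing A := { (inferInstance : Ring A) with mul_comm := hcomm }
    haveI : IsDomain A := NoZeroDivisors.to_isDomain A
    haveI := OddCond.OutSolvable.finite_mulAut E
    let f : P →* A :=
      { toFun := fun c => ⟨endOf (c : MulAut E), hmem c (hP c.2)⟩
        map_one' := Subtype.ext (map_one endOf)
        map_mul' := fun c d => Subtype.ext (map_mul endOf (c : MulAut E) d) }
    exact isCyclic_of_injective_ringHom f fun c d h =>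
      Subtype.ext (endOf_injective (congrArg Subtype.val h))

/-- An `r`-subgroup centralising an irreducible group, of large order, is itself irreducible. -/
theorem irr_of_centralizing [Nontrivial E] {r : ℕ} [Fact r.Prime] (hE : Nat.card E = 2 ^ n)
    (hM : ∀ d, 0 < d → d < n → ¬ M ∣ 2 ^ d - 1) {Q P : Subgroup (MulAut E)} (hI : Irr Q)
    (hP : P ≤ centralizer (Q : Set (MulAut E))) (hdvd : M ∣ Nat.card P) : Irr P := by
  refine irr_of_orbit hE hM fun v hv => ?_
  rw [← MulAction.index_stabilizer]
  suffices h : MulAction.stabilizer P v = ⊥ by rwa [h, index_bot]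
  refine (Subgroup.eq_bot_iff_forall _).2 fun c hc => Subtype.ext (MulEquiv.ext fun x => ?_)
  let W : Subgroup E := MonoidHom.eqLocus (c : MulAut E).toMonoidHom (MonoidHom.id E)
  rcases hI W (fun a ha w hw => by
      show (c : MulAut E) (a w) = a w
      have h : a * (c : MulAut E) = (c : MulAut E) * a := mem_centralizer_iff.1 (hP c.2) a ha
      calc (c : MulAut E) (a w) = (a * (c : MulAut E)) w := by rw [h]; rfl
        _ = a w := congrArg a hw) with h | h
  · have : v ∈ W := hc
    rw [h, mem_bot] at this
    exact absurd this hv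
  · exact (show x ∈ W from h ▸ mem_top x)

/-- A group generated by two elements of exponent at most nine has few automorphisms. -/
theorem card_mulAut_lt_sixty {V : Type*} [Group V] [Finite V] (hV : Nat.card V ∣ 9)
    (hexp : ∀ u : V, u ^ 3 = 1) : Nat.card (MulAut V) < 60 := by
  classical
  haveI := Fintype.ofFinite V
  have hperm : Nat.card (MulAut V) ≤ (Nat.card V).factorial := by
    rw [← Nat.card_perm]
    exact Nat.card_le_card_of_injective (fun a : MulAut V => a.toEquiv)
      fun a b hab => MulEquiv.toEquiv_injective hab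
  obtain ⟨i, hi, hcard⟩ := (Nat.dvd_prime_pow Nat.prime_three).1 (show Nat.card V ∣ 3 ^ 2 from hV)
  by_cases hi2 : i ≤ 1
  · have h6 : (3 ^ i : ℕ).factorial ≤ 6 := by interval_cases i <;> decide
    rw [hcard] at hperm
    omega
  obtain rfl : i = 2 := by omega
  haveI : Nontrivial V := Finite.one_lt_card_iff_nontrivial.1 (by rw [hcard]; norm_num)
  obtain ⟨a, ha⟩ := exists_ne (1 : V)
  haveI : Fact (Nat.Prime 3) := ⟨Nat.prime_three⟩
  have ha3 : Nat.card (zpowers a) = 3 := by rw [Nat.card_zpowers, orderOf_eq_prime (hexp a) ha]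
  obtain ⟨b, hb⟩ : ∃ b, b ∉ zpowers a := by
    by_contra h
    push Not at h
    rw [(eq_top_iff' _).2 h, Subgroup.card_top, hcard] at ha3
    omega
  have hgen : closure ({a, b} : Set V) = ⊤ := by
    refine eq_top_of_card_eq _ ?_
    have hle : zpowers a < closure ({a, b} : Set V) :=
      lt_of_le_of_ne (zpowers_le.2 (subset_closure (by simp))) fun h =>
        hb (h ▸ subset_closure (by simp))
    have h3 : 3 < Nat.card (closure ({a, b} : Set V)) := by
      rcases (card_le_of_le hle.le).lt_or_eq with h | h
      · rwa [ha3] at h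
      · exact absurd (eq_of_le_of_card_ge hle.le h.ge) hle.ne
    obtain ⟨j, hj, hjc⟩ := (Nat.dvd_prime_pow Nat.prime_three).1
      (hcard ▸ card_subgroup_dvd_card (closure ({a, b} : Set V)))
    rw [hjc] at h3 ⊢
    interval_cases j <;> first | omega | exact hcard.symm
  let T : Finset (V × V) := (Finset.univ.erase 1).offDiag
  have hT : T.card = 56 := by
    rw [Finset.offDiag_card, Finset.card_erase_of_mem (Finset.mem_univ _), Finset.card_univ,
      ← Nat.card_eq_fintype_card, hcard]
    norm_num
  have hab : a ≠ b := fun h => hb (h ▸ mem_zpowers a)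
  have hmem : ∀ θ : MulAut V, (θ a, θ b) ∈ T := by
    intro θ
    simp only [T, Finset.mem_offDiag, Finset.mem_erase, Finset.mem_univ, and_true, ne_eq,
      EmbeddingLike.map_eq_one_iff, EmbeddingLike.apply_eq_iff_eq]
    exact ⟨ha, fun h => hb (h ▸ one_mem _), hab⟩
  calc Nat.card (MulAut V) ≤ Nat.card ↥T := by
        refine Nat.card_le_card_of_injective (fun θ => ⟨(θ a, θ b), hmem θ⟩) fun θ θ' h => ?_
        have h' := congrArg Subtype.val h
        simp only [Prod.mk.injEq] at h'
        refine MulEquiv.ext fun x => ?_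
        refine MonoidHom.eqOn_closure (f := θ.toMonoidHom) (g := θ'.toMonoidHom) ?_ (hgen ▸ mem_top x)
        rintro y (rfl | rfl)
        exacts [h'.1, h'.2]
    _ < 60 := by rw [Nat.card_eq_finsetCard, hT]; norm_num

/-- The normaliser of a subgroup with solvable automorphism group and commutative centraliser. -/
theorem isSolvable_normalizer {G : Type*} [Group G] (Q : Subgroup G)
    (hC : ∀ a ∈ centralizer (Q : Set G), ∀ b ∈ centralizer (Q : Set G), a * b = b * a)
    (hA : Group.IsSolvable (MulAut Q)) :
    Group.IsSolvable (normalizer (Q : Set G)) := by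
  let f : normalizer (Q : Set G) →* MulAut Q :=
    { toFun := fun n =>
        { toFun := fun x => ⟨(n : G) * x * (n : G)⁻¹, (mem_normalizer_iff.1 n.2 x).1 x.2⟩
          invFun := fun x => ⟨(n : G)⁻¹ * x * n, (mem_normalizer_iff''.1 n.2 x).1 x.2⟩
          left_inv := fun x => Subtype.ext (by simp [mul_assoc])
          right_inv := fun x => Subtype.ext (by simp [mul_assoc])
          map_mul' := fun x y => Subtype.ext (by simp [mul_assoc]) }
      map_one' := MulEquiv.ext fun x => Subtype.ext (by simp)
      map_mul' := fun a b => MulEquiv.ext fun x => Subtype.ext (by simp [mul_assoc]) }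
  have hker : ∀ a ∈ f.ker, (a : G) ∈ centralizer (Q : Set G) := by
    intro a ha
    refine mem_centralizer_iff.2 fun q hq => ?_
    have h : (a : G) * q * (a : G)⁻¹ = q :=
      congrArg (fun e : MulAut Q => ((e ⟨q, hq⟩ : Q) : G)) (MonoidHom.mem_ker.1 ha)
    exact (mul_inv_eq_iff_eq_mul.1 h).symm
  haveI := hA
  exact OddCond.OutSolvable.isSolvable_of_ker_range f
    (Group.isSolvable_of_comm fun a b => Subtype.ext (Subtype.ext (hC _ (hker a a.2) _ (hker b b.2))))
    inferInstance

theorem isSolvable_mulAut_of_cyclic {Q : Type*} [Group Q] [IsCyclic Q] :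
    Group.IsSolvable (MulAut Q) := by
  exact Group.isSolvable_of_comm fun a b =>
    (IsCyclic.mulAutMulEquiv Q).injective (by rw [map_mul, map_mul, mul_comm])

/-- The 3-part of the order of a subgroup of `GL₆(2)`. -/
theorem card_le_of_three (hE : Nat.card E = 2 ^ 6) (hsq : ∀ x : E, x * x = 1)
    (Q : Subgroup (MulAut E)) (h3 : IsPGroup 3 Q) : Nat.card Q ∣ 81 := by
  haveI : Fact (Nat.Prime 2) := ⟨Nat.prime_two⟩
  letI : Module (ZMod 2) (Additive E) := AddCommGroup.zmodModule fun x => by
    rw [two_nsmul]; exact hsq (Additive.toMul x)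
  haveI : Module.Finite (ZMod 2) (Additive E) := Module.Finite.of_finite
  let toEnd : MulAut E →* Module.End (ZMod 2) (Additive E) :=
    { toFun := fun a => (endOf a : Additive E →+ Additive E).toZModLinearMap 2
      map_one' := rfl
      map_mul' := fun _ _ => rfl }
  have hd : Module.finrank (ZMod 2) (Additive E) = 6 := by
    have h := Module.natCard_eq_pow_finrank (K := ZMod 2) (V := Additive E)
    rw [Nat.card_congr (Additive.toMul (α := E)), hE, Nat.card_zmod] at h
    exact (Nat.pow_right_injective le_rfl h).symm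
  let bs := Module.finBasisOfFinrankEq (ZMod 2) (Additive E) hd
  let g : MulAut E →* GL (Fin 6) (ZMod 2) :=
    (((LinearMap.toMatrixAlgEquiv bs).toMonoidHom).comp toEnd).toHomUnits
  have hg : Function.Injective g := by
    intro a b hab
    have h1 : toEnd a = toEnd b :=
      (LinearMap.toMatrixAlgEquiv bs).injective (congrArg Units.val hab)
    exact endOf_injective (DFunLike.ext _ _ fun x => LinearMap.congr_fun h1 x)
  have hdvd : Nat.card Q ∣ Nat.card (GL (Fin 6) (ZMod 2)) :=
    Subgroup.card_dvd_of_injective (g.comp Q.subtype) (hg.comp Q.subtype_injective)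
  rw [Matrix.card_GL_field] at hdvd
  haveI : Fact (Nat.Prime 3) := ⟨Nat.prime_three⟩
  obtain ⟨j, hj⟩ := IsPGroup.iff_card.1 h3
  rw [hj] at hdvd ⊢
  by_cases hj4 : j ≤ 4
  · exact pow_dvd_pow 3 hj4
  exfalso
  have h5 : 3 ^ 5 ∣ _ := (pow_dvd_pow 3 (show 5 ≤ j by omega)).trans hdvd
  simp [Fin.prod_univ_succ] at h5

/-- A noncyclic Sylow 3-subgroup of a transitive group in dimension six. -/
theorem isSolvable_mulAut_three (hE : Nat.card E = 2 ^ 6) (hsq : ∀ x : E, x * x = 1) [Nontrivial E]
    (Q : Subgroup (MulAut E)) (h3 : IsPGroup 3 Q) (hI : Irr Q)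
    (hna : ∃ x y : Q, x * y ≠ y * x) : Group.IsSolvable (MulAut Q) := by
  classical
  haveI : Fact (Nat.Prime 3) := ⟨Nat.prime_three⟩
  haveI := OddCond.OutSolvable.finite_mulAut E
  haveI := OddCond.OutSolvable.finite_mulAut Q
  have hcardQ := card_le_of_three hE hsq Q h3
  have hzle : (center Q).map Q.subtype ≤ centralizer (Q : Set (MulAut E)) := by
    rintro _ ⟨z, hz, rfl⟩
    exact mem_centralizer_iff.2 fun q hq => congrArg Subtype.val (mem_center_iff.1 hz ⟨q, hq⟩)
  have h9 : ¬ 9 ∣ Nat.card (center Q) := by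
    intro h9
    obtain ⟨x, y, hxy⟩ := hna
    have hI' := irr_of_centralizing (n := 6) (M := 9) (r := 3) hE
      (fun d hd hd6 => by interval_cases d <;> norm_num) hI hzle
      (by rwa [card_map_of_injective Q.subtype_injective])
    have hQ : ∀ q ∈ Q, q ∈ centralizer (((center Q).map Q.subtype : Subgroup _) : Set (MulAut E)) := by
      intro q hq
      refine mem_centralizer_iff.2 ?_
      rintro _ ⟨z, hz, rfl⟩
      exact (congrArg Subtype.val (mem_center_iff.1 hz ⟨q, hq⟩)).symm
    exact hxy (Subtype.ext ((centralizer_facts hI').1 _ (hQ _ x.2) _ (hQ _ y.2)))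
  haveI : Nontrivial Q := by
    obtain ⟨x, y, hxy⟩ := hna
    exact ⟨x * y, y * x, hxy⟩
  have hZ3 : Nat.card (center Q) = 3 := by
    obtain ⟨i, hi⟩ := IsPGroup.iff_card.1 (h3.to_subgroup (center Q))
    haveI := h3.center_nontrivial
    have h1 : 1 < Nat.card (center Q) := Finite.one_lt_card
    rw [hi] at h9 h1 ⊢
    rcases i with - | - | i
    · simp at h1
    · rfl
    · exact absurd (pow_dvd_pow 3 (show 2 ≤ i + 1 + 1 by omega)) h9
  have hcomm_mem : ∀ x y : Q, ⁅x, y⁆ ∈ frattini Q := fun x y =>
    PFrattini.commutator_le_frattini h3 (commutator_mem_commutator (mem_top _) (mem_top _))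
  have hkerp : IsPGroup 3 (OddCond.OutSolvable.modPhi Q).ker := by
    refine RankTwoAut.isPGroup_of_trivial_on_frattini h3 _ fun α hα x => ?_
    rw [← QuotientGroup.eq]
    exact (congrArg (fun e : MulAut (Q ⧸ frattini Q) => e (x : Q ⧸ frattini Q))
      (MonoidHom.mem_ker.1 hα)).symm
  haveI : Group.IsSolvable (OddCond.OutSolvable.modPhi Q).ker := OddCond.isPGroup_isSolvable hkerp
  have hVexp : ∀ u : Q ⧸ frattini Q, u ^ 3 = 1 := by
    intro u
    obtain ⟨x, rfl⟩ := QuotientGroup.mk_surjective u
    rw [← QuotientGroup.mk_pow, QuotientGroup.eq_one_iff]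
    exact PFrattini.pow_mem_frattini h3 x
  have hV9 : Nat.card (Q ⧸ frattini Q) ∣ 9 := by
    obtain ⟨i, hi⟩ := IsPGroup.iff_card.1 (h3.to_quotient (frattini Q))
    rw [hi]
    rw [show (9 : ℕ) = 3 ^ 2 from rfl]
    suffices hi' : i ≤ 2 from pow_dvd_pow 3 hi'
    by_contra hi2
    obtain ⟨l, hl⟩ := IsPGroup.iff_card.1 (h3.to_subgroup (frattini Q))
    have hmul := Subgroup.card_eq_card_quotient_mul_card_subgroup (frattini Q)
    rw [hi, hl, ← pow_add] at hmul
    rw [hmul, show 81 = 3 ^ 4 from rfl, Nat.pow_dvd_pow_iff_le_right (by norm_num)] at hcardQ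
    obtain ⟨x, y, hxy⟩ := hna
    have hl0 : l ≠ 0 := by
      rintro rfl
      have hb : frattini Q = ⊥ := Subgroup.card_eq_one.1 hl
      have := hcomm_mem x y
      rw [hb, mem_bot, commutatorElement_eq_one_iff_mul_comm] at this
      exact hxy this
    obtain ⟨rfl, rfl⟩ : i = 3 ∧ l = 1 := by omega
    have hΦZ : frattini Q = center Q := by
      obtain ⟨z, hzΦ, hzc, hz1⟩ := Critical.exists_center_mem h3 (N := frattini Q) (by
        intro hb
        rw [hb, Subgroup.card_bot] at hl
        norm_num at hl)
      have hz : zpowers z = frattini Q := by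
        refine eq_of_le_of_card_ge (zpowers_le.2 hzΦ) ?_
        rw [Nat.card_zpowers, hl]
        have := IsPGroup.iff_orderOf.1 h3 z
        obtain ⟨j, hj⟩ := this
        rcases j with - | j
        · exact absurd (orderOf_eq_one_iff.1 hj) hz1
        · rw [hj]; exact Nat.pow_le_pow_right (by norm_num) (by omega)
      refine eq_of_le_of_card_ge (hz ▸ zpowers_le.2 hzc) ?_
      rw [hl, hZ3]; norm_num
    have hcen : ∀ u v w : Q, ⁅u, v⁆ * w = w * ⁅u, v⁆ := fun u v w =>
      (mem_center_iff.1 (hΦZ ▸ hcomm_mem u v) w).symm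
    have hidx : ∀ u : Q, (centralizer ({u} : Set Q)).index ∣ 3 := by
      intro u
      let φ : Q →* center Q :=
        { toFun := fun g => ⟨⁅u, g⁆, hΦZ ▸ hcomm_mem u g⟩
          map_one' := Subtype.ext (commutatorElement_one_right u)
          map_mul' := fun g h => Subtype.ext (by
            show ⁅u, g * h⁆ = ⁅u, g⁆ * ⁅u, h⁆
            calc ⁅u, g * h⁆ = ⁅u, g⁆ * (g * ⁅u, h⁆ * g⁻¹) := by
                  simp only [commutatorElement_def]; group
              _ = _ := by rw [← hcen u h g, mul_inv_cancel_right]) }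
      have hk : φ.ker = centralizer ({u} : Set Q) := by
        ext g
        rw [MonoidHom.mem_ker, mem_centralizer_singleton_iff, Subtype.ext_iff]
        show ⁅u, g⁆ = 1 ↔ _
        rw [commutatorElement_eq_one_iff_mul_comm]
        exact eq_comm
      rw [← hk, Subgroup.index_ker, ← hZ3]
      exact card_subgroup_dvd_card _
    have hQ81 : Nat.card Q = 81 := by rw [hmul]; rfl
    have hbig : ∀ u : Q, 27 ≤ Nat.card (centralizer ({u} : Set Q)) := by
      intro u
      have h1 := (centralizer ({u} : Set Q)).card_mul_index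
      have h2 := Nat.le_of_dvd (by norm_num) (hidx u)
      rw [hQ81] at h1
      nlinarith
    have hsmall : ∀ u : Q, u ∉ center Q → Nat.card (centralizer ({u} : Set Q)) = 27 := by
      intro u hu
      rcases (Nat.dvd_prime Nat.prime_three).1 (hidx u) with h | h
      · refine absurd (mem_center_iff.2 fun g => ?_) hu
        have hg : g ∈ centralizer ({u} : Set Q) := (index_eq_one.1 h) ▸ mem_top g
        exact mem_centralizer_singleton_iff.1 hg
      · have h1 := (centralizer ({u} : Set Q)).card_mul_index
        rw [hQ81, h] at h1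
        omega
    set D := centralizer ({x} : Set Q) ⊓ centralizer ({y} : Set Q) with hD
    have hDcard : 9 ≤ Nat.card D := by
      have h1 := D.card_mul_index
      have h2 := index_inf_le (H := centralizer ({x} : Set Q)) (K := centralizer ({y} : Set Q))
      have h3' := Nat.le_of_dvd (by norm_num) (hidx x)
      have h4 := Nat.le_of_dvd (by norm_num) (hidx y)
      rw [← hD] at h2
      have h5 : D.index ≤ 9 := h2.trans (by nlinarith)
      rw [hQ81] at h1
      nlinarith
    obtain ⟨d, hdD, hdZ⟩ : ∃ d ∈ D, d ∉ center Q := by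
      by_contra h
      push Not at h
      have := card_le_of_le (show D ≤ center Q from h)
      omega
    have hxD : x ∉ D := fun h => hxy (mem_centralizer_singleton_iff.1 h.2)
    have hxZ : x ∉ center Q := fun h => hxy ((mem_center_iff.1 h y).symm)
    set K := D ⊔ zpowers x with hK
    have hKx : K ≤ centralizer ({x} : Set Q) :=
      sup_le inf_le_left (zpowers_le.2 (mem_centralizer_singleton_iff.2 rfl))
    have hK27 : 27 ≤ Nat.card K := by
      obtain ⟨i, hiK⟩ := IsPGroup.iff_card.1 (h3.to_subgroup K)
      have hlt : Nat.card D < Nat.card K := by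
        rcases (card_le_of_le (le_sup_left : D ≤ K)).lt_or_eq with h | h
        · exact h
        · exact absurd ((eq_of_le_of_card_ge (le_sup_left : D ≤ K) h.ge).symm ▸
            (le_sup_right : zpowers x ≤ K) (mem_zpowers x)) hxD
      rw [hiK] at hlt ⊢
      refine le_trans (by norm_num) (Nat.pow_le_pow_right (by norm_num) (show 3 ≤ i from ?_))
      by_contra hi'
      have : 3 ^ i ≤ 3 ^ 2 := Nat.pow_le_pow_right (by norm_num) (by omega)
      omega
    have hKdx : ∀ w : Q, w ∉ center Q → K ≤ centralizer ({w} : Set Q) →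
        centralizer ({w} : Set Q) = K := fun w hw hle =>
      (eq_of_le_of_card_ge hle (by rw [hsmall w hw]; exact hK27)).symm
    have hcx := hKdx x hxZ hKx
    have hdd : K ≤ centralizer ({d} : Set Q) := by
      refine sup_le (fun e he => ?_) (zpowers_le.2 ?_)
      · -- `d` lies in the centre of `D`
        by_contra hne
        have hle : zpowers d ⊔ center Q ≤ D ⊓ centralizer ({d} : Set Q) := by
          refine sup_le (zpowers_le.2 ⟨hdD, mem_centralizer_singleton_iff.2 rfl⟩) fun z hz => ?_
          exact ⟨⟨mem_centralizer_singleton_iff.2 ((mem_center_iff.1 hz x).symm),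
            mem_centralizer_singleton_iff.2 ((mem_center_iff.1 hz y).symm)⟩,
            mem_centralizer_singleton_iff.2 ((mem_center_iff.1 hz d).symm)⟩
        have hD' : D ⊓ centralizer ({d} : Set Q) < D :=
          lt_of_le_of_ne inf_le_left fun h => hne (inf_eq_left.1 h he)
        have hcz : center Q < zpowers d ⊔ center Q :=
          lt_of_le_of_ne le_sup_right fun h => hdZ (h ▸ mem_sup_left (mem_zpowers d))
        have c1 : Nat.card (center Q) < Nat.card ↥(zpowers d ⊔ center Q) := by
          rcases (card_le_of_le hcz.le).lt_or_eq with h | h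
          · exact h
          · exact absurd (eq_of_le_of_card_ge hcz.le h.ge) hcz.ne
        have c2 : Nat.card ↥(zpowers d ⊔ center Q) < Nat.card D := by
          rcases ((card_le_of_le hle).trans (card_le_of_le hD'.le)).lt_or_eq with h | h
          · exact h
          · exact absurd (eq_of_le_of_card_ge hD'.le (by
              have := card_le_of_le hle; omega)) hD'.ne
        -- `D` has order at most nine
        have c3 : Nat.card D < 27 := by
          by_contra h27
          push Not at h27
          refine hxD ?_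
          have hDx : D = centralizer ({x} : Set Q) :=
            eq_of_le_of_card_ge inf_le_left (by rw [hsmall x hxZ]; exact h27)
          rw [hDx]; exact mem_centralizer_singleton_iff.2 rfl
        obtain ⟨i1, e1⟩ := IsPGroup.iff_card.1 (h3.to_subgroup (zpowers d ⊔ center Q))
        obtain ⟨i2, e2⟩ := IsPGroup.iff_card.1 (h3.to_subgroup D)
        rw [hZ3, e1] at c1
        rw [e1, e2] at c2
        rw [e2] at c3
        have a1 : 1 < i1 := (Nat.pow_lt_pow_iff_right (a := 3) (by norm_num)).1
          (by rw [pow_one]; exact c1)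
        have a2 : i1 < i2 := (Nat.pow_lt_pow_iff_right (a := 3) (by norm_num)).1 c2
        have a3 : i2 < 3 := (Nat.pow_lt_pow_iff_right (a := 3) (by norm_num)).1
          (c3.trans_eq (by norm_num))
        omega
      · exact mem_centralizer_singleton_iff.2 (mem_centralizer_singleton_iff.1 hdD.1).symm
    have hcd := hKdx d hdZ hdd
    have hyd : y ∈ centralizer ({d} : Set Q) :=
      mem_centralizer_singleton_iff.2 (mem_centralizer_singleton_iff.1 hdD.2).symm
    rw [hcd, ← hcx, mem_centralizer_singleton_iff] at hyd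
    exact hxy hyd.symm
  haveI := OddCond.OutSolvable.finite_mulAut (Q ⧸ frattini Q)
  refine OddCond.OutSolvable.isSolvable_of_ker_range (OddCond.OutSolvable.modPhi Q) inferInstance ?_
  refine S3378.isSolvable_of_card_lt _ _ rfl ?_
  exact lt_of_le_of_lt (card_le_card_group _) (card_mulAut_lt_sixty hV9 hVexp)

/-- The choice of prime power: it divides `2 ^ n - 1` but no smaller `2 ^ d - 1`. -/
theorem exists_prime_power {n : ℕ} (hn : 2 ≤ n) :
    ∃ r k : ℕ, r.Prime ∧ r ^ k ∣ 2 ^ n - 1 ∧ (∀ d, 0 < d → d < n → ¬ r ^ k ∣ 2 ^ d - 1) ∧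
      (k = 1 ∨ (r = 3 ∧ k = 2 ∧ n = 6)) := by
  by_cases h6 : n = 6
  · subst h6
    exact ⟨3, 2, Nat.prime_three, by norm_num, fun d hd hd6 => by interval_cases d <;> norm_num,
      Or.inr ⟨rfl, rfl, rfl⟩⟩
  · obtain ⟨r, hr, h1, h2⟩ := PPD.exists_primitive_prime (a := 2) le_rfl hn (fun h => h6 h.2) (by
      rintro ⟨-, m, hm⟩
      rcases m with - | - | m
      · norm_num at hm
      · norm_num at hm
      · have : 4 ≤ 2 ^ (m + 1 + 1) := Nat.pow_le_pow_right two_pos (show 2 ≤ m + 1 + 1 by omega)
        omega)
    exact ⟨r, 1, hr, by rwa [pow_one], by simpa using h2, Or.inl rfl⟩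

/-- The main statement of this file. -/
theorem isSolvable_quotient_of_transitive (hsq : ∀ x : E, x * x = 1) (Y : Subgroup (MulAut E))
    (X : Subgroup Y) [X.Normal]
    (htr : ∀ a b : E, a ≠ 1 → b ≠ 1 → ∃ g ∈ X, (g : MulAut E) a = b) :
    Group.IsSolvable (Y ⧸ X) := by
  haveI : Fact (Nat.Prime 2) := ⟨Nat.prime_two⟩
  haveI := OddCond.OutSolvable.finite_mulAut E
  have h2 : IsPGroup 2 E := fun x => ⟨1, by rw [pow_one, sq]; exact hsq x⟩
  obtain ⟨n, hn⟩ := IsPGroup.iff_card.1 h2
  by_cases hn1 : n ≤ 1
  · haveI : Group.IsSolvable Y := Group.isSolvable_of_comm fun a b => by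
      have : ∀ c : MulAut E, c = 1 := by
        intro c
        refine MulEquiv.ext fun x => ?_
        rw [MulAut.one_apply]
        by_contra hcx
        have hx : x ≠ 1 := fun h => hcx (by rw [h, map_one])
        have hcx1 : c x ≠ 1 := fun h => hx ((EmbeddingLike.map_eq_one_iff (f := c)).1 h)
        have h3 : ({1, x, c x} : Set E).ncard ≤ Nat.card E := by
          rw [← Set.ncard_univ]; exact Set.ncard_le_ncard (Set.subset_univ _)
        rw [Set.ncard_insert_of_notMem (by simp [hx.symm, hcx1.symm]) (Set.toFinite _),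
          Set.ncard_pair (fun h => hcx h.symm), hn] at h3
        interval_cases n <;> simp at h3
      exact Subtype.ext ((congrArg₂ (· * ·) (this a) (this b)).trans
        (congrArg₂ (· * ·) (this b) (this a)).symm)
    exact Group.isSolvable_of_surjective (f := QuotientGroup.mk' X) (QuotientGroup.mk'_surjective X)
  haveI : Nontrivial E := Finite.one_lt_card_iff_nontrivial.1 (by
    rw [hn]; exact Nat.one_lt_two_pow_iff.2 (by omega))
  obtain ⟨r, k, hr, hdvd, hmin, hcase⟩ := exists_prime_power (n := n) (by omega)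
  haveI : Fact r.Prime := ⟨hr⟩
  obtain ⟨R⟩ : Nonempty (Sylow r X) := inferInstance
  set Q : Subgroup (MulAut E) := ((R : Subgroup X).map X.subtype).map Y.subtype with hQ
  -- orbits of the Sylow subgroup
  have horb : ∀ v : E, v ≠ 1 → r ^ k ∣ (MulAction.orbit Q v).ncard := by
    intro v hv
    have hXorb : MulAction.orbit X v = ({1}ᶜ : Set E) := by
      ext w
      constructor
      · rintro ⟨g, rfl⟩
        exact fun h => hv ((EmbeddingLike.map_eq_one_iff (f := ((g : Y) : MulAut E))).1 h)
      · intro hw
        obtain ⟨g, hg, hgv⟩ := htr v w hv hw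
        exact ⟨⟨g, hg⟩, hgv⟩
    have h1 : (MulAction.stabilizer X v).index = 2 ^ n - 1 := by
      rw [MulAction.index_stabilizer, hXorb, Set.ncard_compl, hn, Set.ncard_singleton]
    have hQorb : MulAction.orbit Q v = MulAction.orbit (R : Subgroup X) v := by
      ext w
      constructor
      · rintro ⟨⟨q, hq⟩, rfl⟩
        obtain ⟨y, hy, rfl⟩ := hq
        obtain ⟨x, hx, rfl⟩ := hy
        exact ⟨⟨x, hx⟩, rfl⟩
      · rintro ⟨⟨x, hx⟩, rfl⟩
        exact ⟨⟨_, mem_map_of_mem _ (mem_map_of_mem _ hx)⟩, rfl⟩
    rw [hQorb, ← MulAction.index_stabilizer]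
    set SX := MulAction.stabilizer X v
    have hle : (MulAction.stabilizer (R : Subgroup X) v).map (R : Subgroup X).subtype ≤ SX := by
      rintro _ ⟨x, hx, rfl⟩
      exact hx
    have hX := SX.card_mul_index
    have hR := (MulAction.stabilizer (R : Subgroup X) v).card_mul_index
    obtain ⟨b, hb⟩ := IsPGroup.iff_card.1 (R.2.to_subgroup (MulAction.stabilizer (R : Subgroup X) v))
    obtain ⟨a, ha⟩ := IsPGroup.iff_card.1 R.2
    have hbd : r ^ (b + k) ∣ Nat.card X := by
      rw [← hX, pow_add]
      refine Nat.mul_dvd_mul ?_ (h1 ▸ hdvd)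
      rw [← hb, ← card_map_of_injective (R : Subgroup X).subtype_injective]
      exact card_dvd_of_le hle
    have hba : b + k ≤ a := by
      have h := (Nat.Prime.pow_dvd_iff_le_factorization hr Nat.card_pos.ne').1 hbd
      have e := R.card_eq_multiplicity
      rw [ha] at e
      rwa [Nat.pow_right_injective hr.two_le e]
    rw [hb, ha] at hR
    have : (MulAction.stabilizer (R : Subgroup X) v).index = r ^ (a - b) := by
      refine Nat.eq_of_mul_eq_mul_left (pow_pos hr.pos b) ?_
      rw [hR, ← pow_add]; congr 1; omega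
    rw [this]
    exact pow_dvd_pow r (by omega)
  have hI : Irr Q := irr_of_orbit hn hmin horb
  have hQp : IsPGroup r Q := (R.2.map _).map _
  haveI : Group.IsSolvable (normalizer (Q : Set (MulAut E))) := by
    refine isSolvable_normalizer Q (centralizer_facts hI).1 ?_
    by_cases hab : ∀ x y : Q, x * y = y * x
    · haveI := (centralizer_facts hI).2 Q fun q hq =>
        mem_centralizer_iff.2 fun p hp => congrArg Subtype.val (hab ⟨p, hp⟩ ⟨q, hq⟩)
      exact isSolvable_mulAut_of_cyclic
    push Not at hab
    rcases hcase with rfl | ⟨rfl, rfl, rfl⟩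
    · -- primitive prime: the centre is irreducible, so the group is commutative
      exfalso
      obtain ⟨x, y, hxy⟩ := hab
      haveI : Nontrivial Q := ⟨x * y, y * x, hxy⟩
      haveI := hQp.center_nontrivial
      have hI' : Irr ((center Q).map Q.subtype) := by
        refine irr_of_centralizing (r := r) hn hmin hI ?_ ?_
        · rintro _ ⟨z, hz, rfl⟩
          exact mem_centralizer_iff.2 fun q hq => congrArg Subtype.val (mem_center_iff.1 hz ⟨q, hq⟩)
        · rw [card_map_of_injective Q.subtype_injective, pow_one]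
          obtain ⟨i, hi⟩ := IsPGroup.iff_card.1 (hQp.to_subgroup (center Q))
          rw [hi]
          refine dvd_pow_self r ?_
          rintro rfl
          have := Finite.one_lt_card (α := center Q)
          rw [hi, pow_zero] at this
          omega
      refine hxy (Subtype.ext ((centralizer_facts hI').1 _ ?_ _ ?_))
      all_goals
        refine mem_centralizer_iff.2 ?_
        rintro _ ⟨z, hz, rfl⟩
      · exact (congrArg Subtype.val (mem_center_iff.1 hz x)).symm
      · exact (congrArg Subtype.val (mem_center_iff.1 hz y)).symm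
    · exact isSolvable_mulAut_three hn hsq Q hQp hI hab
  -- Frattini argument
  set N := normalizer (((R : Subgroup X).map X.subtype : Subgroup Y) : Set Y) with hN
  let f : N →* normalizer (Q : Set (MulAut E)) :=
    (Y.subtype.comp N.subtype).codRestrict _ fun g =>
      le_normalizer_map Y.subtype (mem_map_of_mem _ g.2)
  haveI : Group.IsSolvable N := Group.isSolvable_of_isSolvable_injective (f := f) fun a b h =>
    Subtype.ext (Subtype.ext (congrArg (fun z : normalizer (Q : Set (MulAut E)) => (z : MulAut E)) h))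
  refine Group.isSolvable_of_surjective (f := (QuotientGroup.mk' X).comp N.subtype) fun q => ?_
  obtain ⟨y, rfl⟩ := QuotientGroup.mk_surjective q
  obtain ⟨a, ha, x, hx, rfl⟩ := Subgroup.mem_sup_of_normal_right.1
    (show y ∈ N ⊔ X by rw [Sylow.normalizer_sup_eq_top R]; trivial)
  refine ⟨⟨a, ha⟩, ?_⟩
  simp only [MonoidHom.coe_comp, Function.comp_apply, Subgroup.coe_subtype, QuotientGroup.mk'_apply]
  rw [QuotientGroup.mk_mul, (QuotientGroup.eq_one_iff x).2 hx, mul_one]

end Cfsg.Agent.Lib.OutSylow96
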