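import Cfsg.Agent.Lib.OutSylow96.Fixing
import Cfsg.Agent.Lib.OutSylow96.Linear

/-!
A simple group whose Sylow 2-involutions commute and are all conjugate has a solvable outer
automorphism group.
-/

set_option autoImplicit false

namespace Cfsg.Agent.Lib.OutSylow96

open Subgroup OddCond.OutSolvable

universe u

variable {G : Type u} [Group G] [Finite G]

/-- The conjugation action on an elementary abelian subgroup. -/
def conjOn (Eg : Subgroup G) : normalizer (Eg : Set G) →* MulAut Eg where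
  toFun n :=
    { toFun := fun x => ⟨(n : G) * x * (n : G)⁻¹, (mem_normalizer_iff.1 n.2 x).1 x.2⟩
      invFun := fun x => ⟨(n : G)⁻¹ * x * n, (mem_normalizer_iff''.1 n.2 x).1 x.2⟩
      left_inv := fun x => Subtype.ext (by simp [mul_assoc])
      right_inv := fun x => Subtype.ext (by simp [mul_assoc])
      map_mul' := fun x y => Subtype.ext (by simp [mul_assoc]) }
  map_one' := MulEquiv.ext fun x => Subtype.ext (by simp)
  map_mul' a b := MulEquiv.ext fun x => Subtype.ext (by simp [mul_assoc])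

theorem conjOn_apply (Eg : Subgroup G) (n : normalizer (Eg : Set G)) (x : Eg) :
    ((conjOn Eg n x : Eg) : G) = (n : G) * x * (n : G)⁻¹ := rfl

/-- The automorphisms preserving a subgroup. -/
def stabSub (Eg : Subgroup G) : Subgroup (MulAut G) where
  carrier := {a | ∀ x, a x ∈ Eg ↔ x ∈ Eg}
  one_mem' _ := Iff.rfl
  mul_mem' {a b} ha hb x := (ha (b x)).trans (hb x)
  inv_mem' {a} ha x := by
    have h := (ha (a⁻¹ x)).symm
    rwa [show a (a⁻¹ x) = x from a.apply_symm_apply x] at h

/-- Restriction to a preserved subgroup. -/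
def restrOn (Eg : Subgroup G) : stabSub Eg →* MulAut Eg where
  toFun a :=
    { toFun := fun x => ⟨(a : MulAut G) x, (a.2 x).2 x.2⟩
      invFun := fun x => ⟨((a⁻¹ : stabSub Eg) : MulAut G) x, ((a⁻¹).2 x).2 x.2⟩
      left_inv := fun x => Subtype.ext ((a : MulAut G).symm_apply_apply x)
      right_inv := fun x => Subtype.ext ((a : MulAut G).apply_symm_apply x)
      map_mul' := fun x y => Subtype.ext (map_mul (a : MulAut G) (x : G) y) }
  map_one' := rfl
  map_mul' _ _ := rfl

theorem restrOn_apply (Eg : Subgroup G) (a : stabSub Eg) (x : Eg) :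
    ((restrOn Eg a x : Eg) : G) = (a : MulAut G) x := rfl

theorem out_of_commuting_involutions (hFT : OddCond.OddSolvable.{u}) [IsSimpleGroup G]
    (S : Sylow 2 G) (hS : (S : Subgroup G) ≠ ⊥)
    (hcomm : ∀ s ∈ S, ∀ t ∈ S, orderOf s = 2 → orderOf t = 2 → s * t = t * s)
    (hconj : ∀ s ∈ S, ∀ t ∈ S, orderOf s = 2 → orderOf t = 2 → ∃ g : G, g * s * g⁻¹ = t) :
    Group.IsSolvable (Cfsg.Out G) := by
  haveI : Fact (Nat.Prime 2) := ⟨Nat.prime_two⟩
  haveI := finite_mulAut G
  haveI := finite_mulAut ↥(S : Subgroup G)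
  have hord : ∀ s : G, s * s = 1 → s ≠ 1 → orderOf s = 2 := fun s h h1 =>
    orderOf_eq_prime (by rw [sq]; exact h) h1
  have hcomm' : ∀ s ∈ (S : Subgroup G), ∀ t ∈ (S : Subgroup G), s * s = 1 → t * t = 1 →
      s * t = t * s := by
    intro s hs t ht h1 h2
    rcases eq_or_ne s 1 with rfl | hs1
    · rw [one_mul, mul_one]
    rcases eq_or_ne t 1 with rfl | ht1
    · rw [one_mul, mul_one]
    exact hcomm s hs t ht (hord s h1 hs1) (hord t h2 ht1)
  let Eg : Subgroup G :=
    { carrier := {x | x ∈ (S : Subgroup G) ∧ x * x = 1}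
      one_mem' := ⟨one_mem _, mul_one 1⟩
      mul_mem' := fun {x y} hx hy => ⟨mul_mem hx.1 hy.1, by
        rw [mul_assoc, ← mul_assoc y, hcomm' y hy.1 x hx.1 hy.2 hx.2, mul_assoc x y, hy.2, mul_one,
          hx.2]⟩
      inv_mem' := fun {x} hx => ⟨inv_mem hx.1, by rw [← mul_inv_rev, hx.2, inv_one]⟩ }
  have hEmem : ∀ x : G, x ∈ Eg ↔ x ∈ (S : Subgroup G) ∧ x * x = 1 := fun _ => Iff.rfl
  letI : CommGroup Eg :=
    { (inferInstance : Group Eg) with
      mul_comm := fun x y => Subtype.ext (hcomm' x x.2.1 y y.2.1 x.2.2 y.2.2) }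
  have hEsq : ∀ x : Eg, x * x = 1 := fun x => Subtype.ext x.2.2
  haveI := finite_mulAut Eg
  -- transitivity of the normaliser
  have htrans : ∀ a b : Eg, a ≠ 1 → b ≠ 1 → ∃ n, conjOn Eg n a = b := by
    intro a b ha hb
    obtain ⟨g, hg⟩ := hconj a a.2.1 b b.2.1 (hord a a.2.2 fun h => ha (Subtype.ext h))
      (hord b b.2.2 fun h => hb (Subtype.ext h))
    set C := centralizer ({(b : G)} : Set G) with hC
    have hEC : Eg ≤ C := fun x hx =>
      mem_centralizer_singleton_iff.2 (hcomm' x hx.1 b b.2.1 hx.2 b.2.2)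
    have hgEC : Eg.map (MulAut.conj g).toMonoidHom ≤ C := by
      rintro _ ⟨x, hx, rfl⟩
      refine mem_centralizer_singleton_iff.2 ?_
      show g * x * g⁻¹ * b = b * (g * x * g⁻¹)
      rw [← hg]
      calc g * x * g⁻¹ * (g * a * g⁻¹) = g * (x * a) * g⁻¹ := by group
        _ = g * (a * x) * g⁻¹ := by rw [hcomm' x hx.1 a a.2.1 hx.2 a.2.2]
        _ = _ := by group
    have hEp : IsPGroup 2 Eg := fun x => ⟨1, by rw [pow_one, sq]; exact hEsq x⟩
    obtain ⟨P₁, hP₁⟩ := (hEp.comap_of_injective C.subtype C.subtype_injective).exists_le_sylow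
    obtain ⟨P₂, hP₂⟩ :=
      ((hEp.map (MulAut.conj g).toMonoidHom).comap_of_injective C.subtype C.subtype_injective).exists_le_sylow
    obtain ⟨c, hc⟩ := MulAction.exists_smul_eq C P₂ P₁
    obtain ⟨S', hS'⟩ := (P₁.2.map C.subtype).exists_le_sylow
    obtain ⟨h, hh⟩ := MulAction.exists_smul_eq G S S'
    -- all elements of `S'` squaring to one lie in the conjugate of `Eg`
    have hin : ∀ x ∈ (S' : Subgroup G), x * x = 1 → x ∈ Eg.map (MulAut.conj h).toMonoidHom := by
      intro x hx hx2
      rw [← hh] at hx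
      obtain ⟨y, hy, rfl⟩ := hx
      refine ⟨y, ⟨hy, ?_⟩, rfl⟩
      have h2 : MulAut.conj h (y * y) = MulAut.conj h 1 := by
        rw [map_mul, map_one]; exact hx2
      exact (MulAut.conj h).injective h2
    set n : G := (c : G) * g with hn
    have h1 : Eg ≤ Eg.map (MulAut.conj h).toMonoidHom := fun x hx =>
      hin x (hS' ⟨⟨x, hEC hx⟩, hP₁ hx, rfl⟩) hx.2
    have h2 : Eg.map (MulAut.conj n).toMonoidHom ≤ Eg.map (MulAut.conj h).toMonoidHom := by
      rintro _ ⟨x, hx, rfl⟩
      have hgx : g * x * g⁻¹ ∈ C := hgEC ⟨x, hx, rfl⟩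
      have hP : (⟨g * x * g⁻¹, hgx⟩ : C) ∈ (P₂ : Subgroup C) := hP₂ ⟨x, hx, rfl⟩
      have hP' : MulAut.conj c ⟨g * x * g⁻¹, hgx⟩ ∈ (P₁ : Subgroup C) := by
        rw [← hc]; exact ⟨_, hP, rfl⟩
      refine hin _ (hS' ⟨_, hP', ?_⟩) ?_
      · show (c : G) * (g * x * g⁻¹) * (c : G)⁻¹ = (c : G) * g * x * ((c : G) * g)⁻¹
        group
      · show MulAut.conj n x * MulAut.conj n x = 1
        rw [← map_mul, hx.2, map_one]
    have hcardE : ∀ k : G, Nat.card (Eg.map (MulAut.conj k).toMonoidHom) = Nat.card Eg := fun k =>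
      card_map_of_injective (MulAut.conj k).injective
    have heq : Eg.map (MulAut.conj n).toMonoidHom = Eg :=
      (eq_of_le_of_card_ge h2 (by rw [hcardE, hcardE])).trans
        (eq_of_le_of_card_ge h1 (by rw [hcardE])).symm
    have hnN : n ∈ normalizer (Eg : Set G) := by
      refine mem_normalizer_iff.2 fun x => ⟨fun hx => heq ▸ ⟨x, hx, rfl⟩, fun hx => ?_⟩
      rw [← heq] at hx
      obtain ⟨y, hy, hyx⟩ := hx
      have : y = x := (MulAut.conj n).injective hyx
      exact this ▸ hy
    refine ⟨⟨n, hnN⟩, Subtype.ext ?_⟩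
    show n * (a : G) * n⁻¹ = b
    calc n * (a : G) * n⁻¹ = (c : G) * (g * a * g⁻¹) * (c : G)⁻¹ := by rw [hn]; group
      _ = (b : G) := by rw [hg, mem_centralizer_singleton_iff.1 c.2, mul_inv_cancel_right]
  -- the stabiliser of the Sylow subgroup preserves `Eg`
  have hstab : stabSylow S ≤ stabSub Eg := by
    intro a ha x
    constructor
    · intro hx
      obtain ⟨hxS, hx2⟩ := (hEmem _).1 hx
      refine (hEmem x).2 ⟨?_, ?_⟩
      · have h := apply_mem (inv_mem ha) hxS
        rwa [show a⁻¹ (a x) = x from a.symm_apply_apply x] at h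
      · rw [← map_mul, ← map_one a] at hx2
        exact a.injective hx2
    · intro hx
      obtain ⟨hxS, hx2⟩ := (hEmem x).1 hx
      exact (hEmem _).2 ⟨apply_mem ha hxS, by rw [← map_mul, hx2, map_one]⟩
  refine isSolvable_out hFT S hS ?_
  set R := (restr S).range with hR
  -- the subgroup of involutions of `S`, and the action on it
  let ES : Subgroup ↥(S : Subgroup G) := Eg.subgroupOf S
  have hES : ∀ h ∈ R, ∀ x ∈ ES, h x ∈ ES := by
    intro h _ x hx
    obtain ⟨-, hx2⟩ := (hEmem _).1 hx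
    refine (hEmem _).2 ⟨(h x).2, ?_⟩
    exact congrArg Subtype.val (show h x * h x = 1 by
      rw [← map_mul, show x * x = 1 from Subtype.ext hx2, map_one])
  set π := restrictAut R ES hES with hπ
  refine isSolvable_of_ker_range π ?_ ?_
  · have hk : Group.IsSolvable (π.ker.map R.subtype) := by
      refine isSolvable_of_fix_involutions hFT S.2 (fun x y hx hy => Subtype.ext
        (hcomm' x x.2 y y.2 (congrArg Subtype.val hx) (congrArg Subtype.val hy))) _ ?_
      rintro _ ⟨a, ha, rfl⟩ x hx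
      exact eq_of_restrictAut ha ((hEmem _).2 ⟨x.2, congrArg Subtype.val hx⟩)
    exact Group.isSolvable_of_isSolvable_injective
      (f := (equivMapOfInjective π.ker R.subtype R.subtype_injective).toMonoidHom)
      (MulEquiv.injective _)
  -- compare with the action on `Eg`
  let e : ES ≃* Eg := subgroupOfEquivOfLe fun x hx => hx.1
  let L : stabSylow S →* MulAut Eg := (restrOn Eg).comp (inclusion hstab)
  suffices hL : Group.IsSolvable L.range by
    haveI := hL
    let κ : MulAut ES ≃* MulAut Eg := MulAut.congr e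
    refine Group.isSolvable_of_isSolvable_injective
      (f := ((κ.toMonoidHom.comp π.range.subtype).codRestrict L.range ?_)) ?_
    · rintro ⟨_, ⟨⟨_, a, rfl⟩, rfl⟩⟩
      exact ⟨a, MulEquiv.ext fun x => Subtype.ext rfl⟩
    · intro p p' h
      exact Subtype.ext (κ.injective (congrArg (fun z : L.range => (z : MulAut Eg)) h))
  -- the group induced by the normaliser
  set ν := conjOn Eg with hν
  set Y := (restrOn Eg).range with hY
  set X : Subgroup Y := ν.range.subgroupOf Y with hX
  haveI : X.Normal := by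
    refine ⟨?_⟩
    rintro ⟨_, hy⟩ ⟨n, hn⟩ ⟨_, ⟨a, rfl⟩⟩
    obtain rfl : ν n = _ := hn
    have ha : (a : MulAut G) (n : G) ∈ normalizer (Eg : Set G) := by
      refine mem_normalizer_iff.2 fun x => ?_
      obtain ⟨z, rfl⟩ := (a : MulAut G).surjective x
      rw [a.2 z, ← map_inv, ← map_mul, ← map_mul, a.2]
      exact mem_normalizer_iff.1 n.2 z
    refine ⟨⟨_, ha⟩, MulEquiv.ext fun x => Subtype.ext ?_⟩
    show (a : MulAut G) (n : G) * x * ((a : MulAut G) (n : G))⁻¹ =
      (a : MulAut G) ((n : G) * (a : MulAut G).symm x * (n : G)⁻¹)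
    simp [map_mul, map_inv]
  have hνY : ν.range ≤ Y := by
    rintro _ ⟨n, rfl⟩
    refine ⟨⟨MulAut.conj (n : G), fun x => (mem_normalizer_iff.1 n.2 x).symm⟩, ?_⟩
    exact MulEquiv.ext fun x => Subtype.ext rfl
  haveI hq : Group.IsSolvable (Y ⧸ X) := by
    refine isSolvable_quotient_of_transitive hEsq Y X fun a b ha hb => ?_
    obtain ⟨n, hn⟩ := htrans a b ha hb
    exact ⟨⟨ν n, hνY ⟨n, rfl⟩⟩, ⟨n, rfl⟩, hn⟩
  have hLY : L.range ≤ Y := by
    rintro _ ⟨a, rfl⟩
    exact ⟨_, rfl⟩
  refine isSolvable_of_ker_range ((QuotientGroup.mk' X).comp (inclusion hLY)) ?_ inferInstance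
  -- the kernel normalises the image of the Sylow subgroup
  have hSN : (S : Subgroup G) ≤ normalizer (Eg : Set G) := by
    intro s hs
    refine mem_normalizer_iff.2 fun x => ?_
    rw [hEmem, hEmem, (S : Subgroup G).mul_mem_cancel_right (inv_mem hs),
      (S : Subgroup G).mul_mem_cancel_left hs,
      show s * x * s⁻¹ * (s * x * s⁻¹) = s * (x * x) * s⁻¹ by group, conj_eq_one_iff]
  let SN : Sylow 2 (normalizer (Eg : Set G)) := S.subtype hSN
  let T : Sylow 2 ν.range := SN.mapSurjective ν.rangeRestrict_surjective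
  haveI : Group.IsSolvable (normalizer ((T : Subgroup ν.range) : Set ν.range)) := by
    set M := normalizer ((T : Subgroup ν.range) : Set ν.range)
    set TM := (T : Subgroup ν.range).subgroupOf M with hTM
    haveI : Group.IsSolvable TM :=
      isSolvable_of_two_group (T.2.of_equiv (subgroupOfEquivOfLe le_normalizer).symm)
    haveI : TM.Normal := normal_in_normalizer
    haveI : Group.IsSolvable (M ⧸ TM) := hFT _ (by
      rw [← Subgroup.index_eq_card, ← Nat.not_even_iff_odd, even_iff_two_dvd]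
      intro h2
      exact T.not_dvd_index (h2.trans (relIndex_dvd_index_of_le le_normalizer)))
    exact (Group.isSolvable_iff_subgroup_quotient TM).2 ⟨inferInstance, inferInstance⟩
  set K := ((QuotientGroup.mk' X).comp (inclusion hLY)).ker with hK
  have hKν : ∀ k : K, ((k : L.range) : MulAut Eg) ∈ ν.range := fun k => by
    have h1 : (k : L.range) ∈ ((QuotientGroup.mk' X).comp (inclusion hLY)).ker := k.2
    rw [MonoidHom.mem_ker, MonoidHom.comp_apply, QuotientGroup.mk'_apply,
      QuotientGroup.eq_one_iff] at h1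
    exact h1
  let toν : K →* ν.range := (L.range.subtype.comp K.subtype).codRestrict _ hKν
  have hnormT : ∀ k : K, toν k ∈ normalizer ((T : Subgroup ν.range) : Set ν.range) := by
    intro k
    obtain ⟨a, ha⟩ : ((k : L.range) : MulAut Eg) ∈ L.range := (k : L.range).2
    have hle : (T : Subgroup ν.range).map (MulAut.conj (toν k)).toMonoidHom ≤ (T : Subgroup ν.range) := by
      rintro _ ⟨_, ⟨s, hs, rfl⟩, rfl⟩
      refine ⟨⟨(a : MulAut G) (s : G), hSN (apply_mem a.2 hs)⟩, apply_mem a.2 hs, Subtype.ext ?_⟩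
      show ν ⟨(a : MulAut G) (s : G), _⟩ =
        ((k : L.range) : MulAut Eg) * ν s * (((k : L.range) : MulAut Eg))⁻¹
      rw [← ha]
      refine MulEquiv.ext fun x => Subtype.ext ?_
      show (a : MulAut G) (s : G) * x * ((a : MulAut G) (s : G))⁻¹ =
        (a : MulAut G) ((s : G) * (a : MulAut G).symm x * (s : G)⁻¹)
      simp [map_mul, map_inv]
    have heqT := eq_of_le_of_card_ge hle (card_map_of_injective (MulAut.conj (toν k)).injective).ge
    refine mem_normalizer_iff.2 fun x => ⟨fun hx => hle ⟨x, hx, rfl⟩, fun hx => ?_⟩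
    rw [← heqT] at hx
    obtain ⟨y, hy, hyx⟩ := hx
    exact (MulAut.conj (toν k)).injective hyx ▸ hy
  refine Group.isSolvable_of_isSolvable_injective
    (f := toν.codRestrict _ hnormT) fun k k' h => ?_
  have h' := congrArg (fun z : normalizer ((T : Subgroup ν.range) : Set ν.range) =>
    ((z : ν.range) : MulAut Eg)) h
  exact Subtype.ext (Subtype.ext h')

end Cfsg.Agent.Lib.OutSylow96
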